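import Groth.Agent.Lib.Horrocks.RatFunDescent
import Mathlib

/-!
# Projective modules over `A` which become isomorphic over the Laurent series
-/

set_option autoImplicit false

namespace GrothLib.Horrocks

open Matrix

universe u

variable {A : Type u} [CommRing A]

/-- An almost idempotent multiple gives a one-sided inverse up to the determinant. -/
theorem corner_adjugate {n : ℕ} (E Z : Matrix (Fin n) (Fin n) (Polynomial A)) (hE : E * E = E)
    (hZ : E * Z = Z) :
    (E + (Polynomial.X : Polynomial A) • Z) * (1 + (Polynomial.X : Polynomial A) • Z).adjugate * E =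
      (1 + (Polynomial.X : Polynomial A) • Z).det • E := by
  have h : E + (Polynomial.X : Polynomial A) • Z = E * (1 + (Polynomial.X : Polynomial A) • Z) := by
    rw [Matrix.mul_add, Matrix.mul_one, Matrix.mul_smul, hZ]
  rw [h, Matrix.mul_assoc E, Matrix.mul_adjugate, Matrix.mul_smul, Matrix.mul_one, Matrix.smul_mul, hE]

theorem adjugate_corner {n : ℕ} (E Z : Matrix (Fin n) (Fin n) (Polynomial A)) (hE : E * E = E)
    (hZ : Z * E = Z) :
    E * (1 + (Polynomial.X : Polynomial A) • Z).adjugate * (E + (Polynomial.X : Polynomial A) • Z) =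
      (1 + (Polynomial.X : Polynomial A) • Z).det • E := by
  have h : E + (Polynomial.X : Polynomial A) • Z = (1 + (Polynomial.X : Polynomial A) • Z) * E := by
    rw [Matrix.add_mul, Matrix.one_mul, Matrix.smul_mul, hZ]
  rw [h, Matrix.mul_assoc E, ← Matrix.mul_assoc _ _ E, Matrix.adjugate_mul, Matrix.smul_mul, Matrix.one_mul,
    Matrix.mul_smul, hE]

theorem det_coeff_zero {n : ℕ} (Z : Matrix (Fin n) (Fin n) (Polynomial A)) :
    (1 + (Polynomial.X : Polynomial A) • Z).det.coeff 0 = 1 := by
  rw [← Polynomial.constantCoeff_apply, RingHom.map_det]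
  convert Matrix.det_one (n := Fin n) (R := A)
  ext i j
  by_cases h : i = j <;> simp [h, Matrix.one_apply]

/-- Matrices over `A⟦X⟧` inverse up to a power of `X` give an equivalence over `A`. -/
theorem eqv_of_powerSeries {n n' : ℕ} (ε : Matrix (Fin n) (Fin n) A) (hε : ε * ε = ε)
    (ε' : Matrix (Fin n') (Fin n') A) (hε' : ε' * ε' = ε')
    (U : Matrix (Fin n') (Fin n) (PowerSeries A)) (W : Matrix (Fin n) (Fin n') (PowerSeries A)) (r : ℕ)
    (hU : ε'.map PowerSeries.C * U = U) (hU' : U * ε.map PowerSeries.C = U)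
    (hW : ε.map PowerSeries.C * W = W) (hW' : W * ε'.map PowerSeries.C = W)
    (hUW : U * W = (PowerSeries.X ^ r : PowerSeries A) • ε'.map PowerSeries.C)
    (hWU : W * U = (PowerSeries.X ^ r : PowerSeries A) • ε.map PowerSeries.C) :
    Eqv ε ε' := by
  classical
  let cp : Polynomial A →+* PowerSeries A := Polynomial.coeToPowerSeries.ringHom
  let q : PowerSeries A →+* PowerSeries A ⧸ Ideal.span {(PowerSeries.X : PowerSeries A) ^ (r + 1)} :=
    Ideal.Quotient.mk _
  let E := ε.map Polynomial.C
  let E' := ε'.map Polynomial.C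
  have hE : E * E = E := by simp only [E]; rw [← Matrix.map_mul, hε]
  have hE' : E' * E' = E' := by simp only [E']; rw [← Matrix.map_mul, hε']
  have hEc : E.map cp = ε.map PowerSeries.C := by ext i j : 1; simp [E, cp]
  have hEc' : E'.map cp = ε'.map PowerSeries.C := by ext i j : 1; simp [E', cp]
  have hq : ∀ x : PowerSeries A, q (cp (PowerSeries.trunc (r + 1) x)) = q x := fun x => by
    refine Ideal.Quotient.eq.2 (Ideal.mem_span_singleton.2 (PowerSeries.X_pow_dvd_iff.2 fun m hm => ?_))
    simp [cp, PowerSeries.coeff_trunc, hm]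
  let U₁ : Matrix (Fin n') (Fin n) (Polynomial A) := E' * U.map (PowerSeries.trunc (r + 1)) * E
  let W₁ : Matrix (Fin n) (Fin n') (Polynomial A) := E * W.map (PowerSeries.trunc (r + 1)) * E'
  have eU : ((U₁.map cp).map q) = U.map q := by
    simp only [U₁, Matrix.map_mul, hEc, hEc']
    have : ((U.map (PowerSeries.trunc (r + 1))).map cp).map q = U.map q := by ext i j : 1; exact hq _
    rw [this, ← Matrix.map_mul, ← Matrix.map_mul, hU, hU']
  have eW : ((W₁.map cp).map q) = W.map q := by
    simp only [W₁, Matrix.map_mul, hEc, hEc']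
    have : ((W.map (PowerSeries.trunc (r + 1))).map cp).map q = W.map q := by ext i j : 1; exact hq _
    rw [this, ← Matrix.map_mul, ← Matrix.map_mul, hW, hW']
  have hdvd : ∀ {k : ℕ} (P : Matrix (Fin k) (Fin k) (Polynomial A)) (δ : Matrix (Fin k) (Fin k) A),
      δ * δ = δ → δ.map Polynomial.C * P = P → P * δ.map Polynomial.C = P →
      (P.map cp).map q = ((PowerSeries.X ^ r : PowerSeries A) • δ.map PowerSeries.C).map q →
      ∃ Z, δ.map Polynomial.C * Z = Z ∧ Z * δ.map Polynomial.C = Z ∧
        P = (Polynomial.X ^ r : Polynomial A) • (δ.map Polynomial.C + (Polynomial.X : Polynomial A) • Z) := by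
    intro k P δ hδ hP hP' h
    have h1 : ∀ i j, (Polynomial.X : Polynomial A) ^ (r + 1) ∣
        P i j - Polynomial.X ^ r * Polynomial.C (δ i j) := fun i j => by
      rw [Polynomial.X_pow_dvd_iff]
      intro m hm
      have h2 := PowerSeries.X_pow_dvd_iff.1 (Ideal.mem_span_singleton.1 (Ideal.Quotient.eq.1 (congrFun (congrFun h i) j))) m hm
      have e1 : cp (P i j) - ((PowerSeries.X ^ r : PowerSeries A) • δ.map PowerSeries.C) i j =
          cp (P i j - Polynomial.X ^ r * Polynomial.C (δ i j)) := by simp [cp]; ring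
      rw [Matrix.map_apply, e1] at h2
      simpa [cp] using h2
    choose Z hZ using h1
    have e : P = (Polynomial.X ^ r : Polynomial A) • (δ.map Polynomial.C + (Polynomial.X : Polynomial A) • Matrix.of Z) := by
      ext i j : 1
      simp only [Matrix.smul_apply, Matrix.add_apply, Matrix.map_apply, Matrix.of_apply, smul_eq_mul]
      linear_combination hZ i j
    let D := δ.map Polynomial.C
    have hD : D * D = D := by simp only [D]; rw [← Matrix.map_mul, hδ]
    refine ⟨D * Matrix.of Z * D, by rw [← Matrix.mul_assoc, ← Matrix.mul_assoc, hD],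
      by rw [Matrix.mul_assoc, hD], ?_⟩
    calc P = D * P * D := by rw [hP, hP']
      _ = _ := by
        rw [e]
        simp only [D] at hD
        simp only [D, Matrix.mul_smul, Matrix.smul_mul, Matrix.mul_add, Matrix.add_mul, hD]
  have eE' : E' * U₁ = U₁ := by simp only [U₁]; rw [← Matrix.mul_assoc, ← Matrix.mul_assoc, hE']
  have eE : U₁ * E = U₁ := by simp only [U₁]; rw [Matrix.mul_assoc, hE]
  have fE : E * W₁ = W₁ := by simp only [W₁]; rw [← Matrix.mul_assoc, ← Matrix.mul_assoc, hE]
  have fE' : W₁ * E' = W₁ := by simp only [W₁]; rw [Matrix.mul_assoc, hE']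
  obtain ⟨Z, hZ1, hZ2, hZ⟩ := hdvd (U₁ * W₁) ε' hε' (by rw [← Matrix.mul_assoc, eE']) (by rw [Matrix.mul_assoc, fE'])
    (by rw [Matrix.map_mul, Matrix.map_mul, eU, eW, ← Matrix.map_mul, hUW])
  obtain ⟨Z', hZ1', hZ2', hZ'⟩ := hdvd (W₁ * U₁) ε hε (by rw [← Matrix.mul_assoc, fE]) (by rw [Matrix.mul_assoc, eE])
    (by rw [Matrix.map_mul, Matrix.map_mul, eW, eU, ← Matrix.map_mul, hWU])
  let g := (1 + (Polynomial.X : Polynomial A) • Z).det
  let g' := (1 + (Polynomial.X : Polynomial A) • Z').det
  let W₂ := g' • (W₁ * (1 + (Polynomial.X : Polynomial A) • Z).adjugate * E')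
  let W₂' := g • (E * (1 + (Polynomial.X : Polynomial A) • Z').adjugate * W₁)
  let G : Polynomial A := Polynomial.X ^ r * (g * g')
  have k1 : U₁ * W₂ = G • E' := by
    simp only [W₂, Matrix.mul_smul]
    rw [← Matrix.mul_assoc, ← Matrix.mul_assoc, hZ, Matrix.smul_mul, Matrix.smul_mul,
      corner_adjugate E' Z hE' hZ1, smul_smul, smul_smul]
    congr 1
    simp only [G, g, g']; ring
  have k2 : W₂' * U₁ = G • E := by
    simp only [W₂', Matrix.smul_mul]
    rw [Matrix.mul_assoc, hZ', Matrix.mul_smul, adjugate_corner E Z' hE hZ2', smul_smul, smul_smul]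
    congr 1
    simp only [G, g, g']; ring
  have hgg : (g * g').coeff 0 = 1 := by
    rw [Polynomial.mul_coeff_zero, det_coeff_zero, det_coeff_zero, one_mul]
  have heq : W₂ = W₂' := by
    have hGE : G • (W₂' * E') = G • (E * W₂) := by
      rw [← Matrix.mul_smul, ← Matrix.smul_mul, ← k1, ← k2]
      exact (Matrix.mul_assoc W₂' U₁ W₂).symm
    have e1 : W₂' * E' = W₂' := by simp only [W₂', Matrix.smul_mul, Matrix.mul_assoc, fE']
    have e2 : E * W₂ = W₂ := by simp only [W₂, Matrix.mul_smul, ← Matrix.mul_assoc, fE]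
    rw [e1, e2] at hGE
    have hG : G ∈ nonZeroDivisors (Polynomial A) := by
      by_contra hn
      obtain ⟨a, ha, haG⟩ := Polynomial.notMem_nonZeroDivisors_iff.mp hn
      have := congrArg (fun p : Polynomial A => p.coeff (0 + r)) haG
      simp only [G, Polynomial.coeff_smul, Polynomial.coeff_X_pow_mul, hgg, smul_eq_mul, mul_one,
        Polynomial.coeff_zero] at this
      exact ha this
    ext i j : 1
    exact (mul_cancel_left_mem_nonZeroDivisors hG).1 (congrFun (congrFun hGE.symm i) j)
  refine eqv_of_coeff_zero ε hε ε' hε' U₁ W₂ r (g₀ := g * g') hgg eE' eE ?_ ?_ k1 (heq ▸ k2)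
  · simp only [W₂, Matrix.mul_smul, ← Matrix.mul_assoc]; rw [fE]
  · simp only [W₂, Matrix.smul_mul, Matrix.mul_assoc]; rw [hE']

end GrothLib.Horrocks
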