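/-
Quillen patching for idempotent matrices over `A[X]`, in the form: if an idempotent matrix is
locally (on `A`) equivalent to an identity matrix, then it is equivalent to its value at `X = 0`.
-/
import Mathlib.RingTheory.Localization.Away.Basic
import Mathlib.RingTheory.Localization.AtPrime.Basic
import Mathlib.RingTheory.Localization.Integer
import Mathlib.Algebra.Polynomial.Lifts
import Mathlib.Algebra.Polynomial.Eval.Degree
import Mathlib.RingTheory.Ideal.Maximal
import Mathlib.LinearAlgebra.Matrix.ToLin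
import Mathlib.RingTheory.Polynomial.Basic
import Mathlib.Tactic.LinearCombination

set_option autoImplicit false

namespace GrothLib.Horrocks

open Polynomial Matrix

universe u

section Eqv

variable {R S : Type*} [CommRing R] [CommRing S] {ι κ μ : Type*}
  [Fintype ι] [Fintype κ] [Fintype μ]

/-- Two idempotent matrices define isomorphic projective modules. -/
def Eqv (e : Matrix ι ι R) (e' : Matrix κ κ R) : Prop :=
  ∃ (u : Matrix κ ι R) (w : Matrix ι κ R), u * w = e' ∧ w * u = e

lemma Eqv.map {e : Matrix ι ι R} {e' : Matrix κ κ R} (h : Eqv e e') (φ : R →+* S) :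
    Eqv (e.map φ) (e'.map φ) := by
  obtain ⟨u, w, h1, h2⟩ := h
  exact ⟨u.map φ, w.map φ, by rw [← Matrix.map_mul, h1], by rw [← Matrix.map_mul, h2]⟩

lemma Eqv.symm {e : Matrix ι ι R} {e' : Matrix κ κ R} (h : Eqv e e') : Eqv e' e := by
  obtain ⟨u, w, h1, h2⟩ := h
  exact ⟨w, u, h2, h1⟩

lemma Eqv.refl [DecidableEq ι] {e : Matrix ι ι R} (he : e * e = e) : Eqv e e := ⟨e, e, he, he⟩

lemma Eqv.trans {e : Matrix ι ι R} {e' : Matrix κ κ R} {e'' : Matrix μ μ R}
    (he : e * e = e) (he'' : e'' * e'' = e'') (h : Eqv e e') (h' : Eqv e' e'') : Eqv e e'' := by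
  obtain ⟨u, w, h1, h2⟩ := h
  obtain ⟨u', w', h1', h2'⟩ := h'
  refine ⟨u' * u, w * w', ?_, ?_⟩
  · calc u' * u * (w * w') = u' * (u * w) * w' := by simp only [Matrix.mul_assoc]
      _ = (u' * w') * (u' * w') := by rw [h1, ← h2']; simp only [Matrix.mul_assoc]
      _ = e'' := by rw [h1', he'']
  · calc w * w' * (u' * u) = w * (w' * u') * u := by simp only [Matrix.mul_assoc]
      _ = (w * u) * (w * u) := by rw [h2', ← h1]; simp only [Matrix.mul_assoc]
      _ = e := by rw [h2, he]

end Eqv

section Scale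

variable {R : Type*} [CommRing R]

/-- `p(Z) ↦ p(a Z)`. -/
noncomputable def sc (a : R) : R[X] →+* R[X] := compRingHom (C a * X)

lemma sc_apply (a : R) (p : R[X]) : sc a p = p.comp (C a * X) := rfl

lemma sc_coeff (a : R) (p : R[X]) (i : ℕ) : (sc a p).coeff i = p.coeff i * a ^ i := by
  rw [sc_apply, comp_C_mul_X_coeff]

variable {S : Type*} [CommRing S] [Algebra R S] (f : R) [IsLocalization.Away f S]

/-- A polynomial over `R[1/f]` with integral constant term lifts after scaling the variable. -/
lemma exists_lift_sc (p : S[X]) (c : R) (hc : p.coeff 0 = algebraMap R S c) :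
    ∃ N : ℕ, ∀ N', N ≤ N' → ∃ q : R[X], q.coeff 0 = c ∧
      q.map (algebraMap R S) = sc (algebraMap R S f ^ N') p := by
  classical
  choose n hn using fun i : ℕ => IsLocalization.Away.surj f (p.coeff i)
  choose a ha using hn
  refine ⟨(Finset.range (p.natDegree + 1)).sup n, fun N' hN' => ?_⟩
  have hl : sc (algebraMap R S f ^ N') p ∈ lifts (algebraMap R S) := by
    rw [lifts_iff_coeff_lifts]
    intro i
    rcases eq_or_ne i 0 with rfl | hi
    · exact ⟨c, by simp [sc_coeff, hc]⟩
    rcases le_or_gt i p.natDegree with hid | hid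
    · have h1 : n i ≤ N' * i := by
        calc n i ≤ N' := (Finset.le_sup (by simp; omega)).trans hN'
          _ ≤ N' * i := Nat.le_mul_of_pos_right _ (Nat.pos_of_ne_zero hi)
      refine ⟨a i * f ^ (N' * i - n i), ?_⟩
      rw [sc_coeff, map_mul, map_pow, ← ha i, mul_assoc, ← pow_add,
        Nat.add_sub_cancel' h1, ← pow_mul]
    · exact ⟨0, by simp [sc_coeff, coeff_eq_zero_of_natDegree_lt hid]⟩
  obtain ⟨q, hq⟩ := (mem_lifts _).mp hl
  refine ⟨q + C (c - q.coeff 0), by simp, ?_⟩
  have h0 : algebraMap R S (q.coeff 0) = algebraMap R S c := by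
    rw [← coeff_map, hq, sc_coeff]; simp [hc]
  rw [Polynomial.map_add, hq, map_C, map_sub, h0, sub_self, map_zero, add_zero]

/-- A polynomial without constant term killed by localisation is killed by scaling. -/
lemma exists_sc_eq_zero (p : R[X]) (h0 : p.coeff 0 = 0) (h : p.map (algebraMap R S) = 0) :
    ∃ N : ℕ, ∀ N', N ≤ N' → sc (f ^ N') p = 0 := by
  classical
  have hk : ∀ i, ∃ n : ℕ, f ^ n * p.coeff i = 0 := by
    intro i
    have h1 : algebraMap R S (p.coeff i) = algebraMap R S 0 := by
      rw [← coeff_map, h, coeff_zero, map_zero]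
    obtain ⟨⟨_, ⟨n, rfl⟩⟩, hn⟩ := (IsLocalization.eq_iff_exists (Submonoid.powers f) S).mp h1
    exact ⟨n, by simpa using hn⟩
  choose n hn using hk
  refine ⟨(Finset.range (p.natDegree + 1)).sup n, fun N' hN' => ?_⟩
  ext i
  rw [sc_coeff, coeff_zero]
  rcases eq_or_ne i 0 with rfl | hi
  · simp [h0]
  rcases le_or_gt i p.natDegree with hid | hid
  · have h1 : n i ≤ N' * i := by
      calc n i ≤ N' := (Finset.le_sup (by simp; omega)).trans hN'
        _ ≤ N' * i := Nat.le_mul_of_pos_right _ (Nat.pos_of_ne_zero hi)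
    rw [← pow_mul, ← Nat.add_sub_cancel' h1, pow_add, ← mul_assoc, mul_comm (p.coeff i), hn,
      zero_mul]
  · simp [coeff_eq_zero_of_natDegree_lt hid]

end Scale

variable {A : Type u} [CommRing A] {n : ℕ}

/-- substitution `X ↦ a X`. -/
noncomputable def sub (a : A) : A[X] →+* A[X] := (aeval (C a * X : A[X])).toRingHom

/-- The value of an idempotent at `a X`. -/
noncomputable def E (e : Matrix (Fin n) (Fin n) A[X]) (a : A) : Matrix (Fin n) (Fin n) A[X] :=
  e.map (sub a)

lemma E_idem {e : Matrix (Fin n) (Fin n) A[X]} (he : e * e = e) (a : A) : E e a * E e a = E e a := by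
  rw [E, ← Matrix.map_mul, he]

lemma E_one (e : Matrix (Fin n) (Fin n) A[X]) : E e 1 = e := by
  ext i j
  simp [E, sub]

lemma E_zero (e : Matrix (Fin n) (Fin n) A[X]) :
    E e 0 = (e.map (evalRingHom 0)).map C := by
  ext i j : 1
  simp [E, sub, aeval_def, eval₂_at_zero, coeff_zero_eq_eval_zero]

/-- The key step: a local trivialisation gives equivalences for congruent substitutions. -/
theorem exists_pow_eqv {e : Matrix (Fin n) (Fin n) A[X]} (he : e * e = e) (f : A)
    {r : ℕ} {Af : Type u} [CommRing Af] [Algebra A Af] [IsLocalization.Away f Af]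
    (α : Matrix (Fin n) (Fin r) Af[X]) (β : Matrix (Fin r) (Fin n) Af[X])
    (hαβ : α * β = e.map (mapRingHom (algebraMap A Af))) (hβα : β * α = 1) :
    ∃ N : ℕ, ∀ a c : A, Eqv (E e a) (E e (a + f ^ N * c)) := by
  classical
  -- generic ring: variables `X` (innermost), `Y`, and `Z` (outermost)
  let f0 : ((A[X])[X]) := C (C f)
  let L : Type u := Localization.Away f0
  let ψ : A →+* ((A[X])[X]) := C.comp C
  let ι0 : Af →+* L :=
    IsLocalization.Away.lift f (S := Af) (g := (algebraMap ((A[X])[X]) L).comp ψ)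
      (IsLocalization.Away.algebraMap_isUnit (S := L) f0)
  have hι0 : ∀ a : A, ι0 (algebraMap A Af a) = algebraMap ((A[X])[X]) L (C (C a)) := fun a =>
    IsLocalization.Away.lift_eq f _ a
  -- the two substitutions
  let x1 : ((A[X])[X])[X] := C (X * C X)
  let x2 : ((A[X])[X])[X] := C (X * C X) + X * C (C X)
  let σ : ((A[X])[X])[X] → A[X] →+* ((A[X])[X])[X] := fun v => eval₂RingHom (C.comp ψ) v
  let τ : ((A[X])[X])[X] → Af[X] →+* L[X] := fun v =>
    eval₂RingHom (C.comp ι0) (v.map (algebraMap ((A[X])[X]) L))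
  have hστ : ∀ v, ((Polynomial.mapRingHom (algebraMap ((A[X])[X]) L)).comp (σ v)) =
      (τ v).comp (mapRingHom (algebraMap A Af)) := by
    intro v
    refine ringHom_ext (fun a => ?_) ?_
    · simp [σ, τ, ψ, hι0]
    · simp [σ, τ]
  let ev0 : ((A[X])[X])[X] →+* ((A[X])[X]) := constantCoeff
  let e1 := e.map (σ x1)
  let e2 := e.map (σ x2)
  have he1 : e1 * e1 = e1 := by simp only [e1]; rw [← Matrix.map_mul, he]
  let P : Matrix (Fin n) (Fin n) L[X] := α.map (τ x2) * β.map (τ x1)
  let Q : Matrix (Fin n) (Fin n) L[X] := α.map (τ x1) * β.map (τ x2)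
  have himg : ∀ v, (e.map (σ v)).map (mapRingHom (algebraMap ((A[X])[X]) L)) =
      α.map (τ v) * β.map (τ v) := by
    intro v
    rw [← Matrix.map_mul, hαβ]
    ext i j : 1
    exact RingHom.congr_fun (hστ v) (e i j)
  have hba : ∀ v, β.map (τ v) * α.map (τ v) = 1 := by
    intro v
    rw [← Matrix.map_mul, hβα, Matrix.map_one _ (map_zero _) (map_one _)]
  have hPQ : P * Q = e2.map (mapRingHom (algebraMap ((A[X])[X]) L)) := by
    rw [himg]
    simp only [P, Q]
    rw [Matrix.mul_assoc, ← Matrix.mul_assoc (β.map (τ x1)), hba, Matrix.one_mul]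
  have hQP : Q * P = e1.map (mapRingHom (algebraMap ((A[X])[X]) L)) := by
    rw [himg]
    simp only [P, Q]
    rw [Matrix.mul_assoc, ← Matrix.mul_assoc (β.map (τ x2)), hba, Matrix.one_mul]
  -- constant terms
  have hx : (x2.map (algebraMap ((A[X])[X]) L)).coeff 0 = (x1.map (algebraMap ((A[X])[X]) L)).coeff 0 := by
    simp [x1, x2]
    ring
  have hτ0 : (constantCoeff : L[X] →+* L).comp (τ x2) = constantCoeff.comp (τ x1) := by
    refine ringHom_ext (fun a => ?_) ?_
    · simp [τ]
    · simpa [τ] using hx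
  have hσ0 : ev0.comp (σ x2) = ev0.comp (σ x1) := by
    refine ringHom_ext (fun a => ?_) ?_
    · simp [σ, ev0]
    · simp [σ, ev0, x1, x2]
  let c1 : Matrix (Fin n) (Fin n) ((A[X])[X]) := e1.map ev0
  have hc1 : c1.map (algebraMap ((A[X])[X]) L) =
      (α.map (τ x1) * β.map (τ x1)).map (constantCoeff : L[X] →+* L) := by
    rw [← himg]
    ext i j
    simp [c1, ev0, e1]
  have hcP : ∀ i j, (P i j).coeff 0 = algebraMap ((A[X])[X]) L (c1 i j) := by
    intro i j
    have : P.map (constantCoeff : L[X] →+* L) = c1.map (algebraMap ((A[X])[X]) L) := by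
      rw [hc1]
      simp only [P, Matrix.map_mul]
      congr 1
      ext a b
      exact RingHom.congr_fun hτ0 (α a b)
    simpa using congrFun (congrFun this i) j
  have hcQ : ∀ i j, (Q i j).coeff 0 = algebraMap ((A[X])[X]) L (c1 i j) := by
    intro i j
    have : Q.map (constantCoeff : L[X] →+* L) = c1.map (algebraMap ((A[X])[X]) L) := by
      rw [hc1]
      simp only [Q, Matrix.map_mul]
      congr 1
      ext a b
      exact RingHom.congr_fun hτ0 (β a b)
    simpa using congrFun (congrFun this i) j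
  -- lift `P` and `Q`
  choose NP hNP using fun i j => exists_lift_sc f0 (P i j) (c1 i j) (hcP i j)
  choose NQ hNQ using fun i j => exists_lift_sc f0 (Q i j) (c1 i j) (hcQ i j)
  let N1 := (Finset.univ.sup fun i => Finset.univ.sup fun j => NP i j) ⊔
    (Finset.univ.sup fun i => Finset.univ.sup fun j => NQ i j)
  have hle : ∀ i j, NP i j ≤ N1 ∧ NQ i j ≤ N1 := fun i j =>
    ⟨((Finset.le_sup (f := fun j => NP i j) (Finset.mem_univ j)).trans
        (Finset.le_sup (f := fun i => Finset.univ.sup fun j => NP i j) (Finset.mem_univ i))).trans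
        le_sup_left,
      ((Finset.le_sup (f := fun j => NQ i j) (Finset.mem_univ j)).trans
        (Finset.le_sup (f := fun i => Finset.univ.sup fun j => NQ i j) (Finset.mem_univ i))).trans
        le_sup_right⟩
  choose u hu0 hu using fun i j => hNP i j N1 (hle i j).1
  choose w hw0 hw using fun i j => hNQ i j N1 (hle i j).2
  let u' : Matrix (Fin n) (Fin n) ((A[X])[X])[X] := Matrix.of u
  let w' : Matrix (Fin n) (Fin n) ((A[X])[X])[X] := Matrix.of w
  let φ := sc (f0 ^ N1)
  let φL := sc (algebraMap ((A[X])[X]) L f0 ^ N1)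
  have hum : u'.map (mapRingHom (algebraMap ((A[X])[X]) L)) = P.map φL := by
    ext i j : 1
    exact hu i j
  have hwm : w'.map (mapRingHom (algebraMap ((A[X])[X]) L)) = Q.map φL := by
    ext i j : 1
    exact hw i j
  have hu00 : u'.map ev0 = c1 := by
    ext i j : 1
    exact hu0 i j
  have hw00 : w'.map ev0 = c1 := by
    ext i j : 1
    exact hw0 i j
  have hφ : ∀ p : ((A[X])[X])[X], mapRingHom (algebraMap ((A[X])[X]) L) (φ p) = φL (mapRingHom (algebraMap ((A[X])[X]) L) p) := by
    intro p
    ext i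
    simp [φ, φL, sc_coeff]
  have hφ0 : ∀ p : ((A[X])[X])[X], ev0 (φ p) = ev0 p := by
    intro p
    simp [φ, ev0, sc_coeff]
  let d1 := u' * w' - e2.map φ
  let d2 := w' * u' - e1.map φ
  have hc11 : c1 * c1 = c1 := by simp only [c1]; rw [← Matrix.map_mul, he1]
  have hd1 : d1.map (mapRingHom (algebraMap ((A[X])[X]) L)) = 0 := by
    simp only [d1]
    rw [Matrix.map_sub _ (by intro a b; exact map_sub _ a b), Matrix.map_mul, hum, hwm, ← Matrix.map_mul, hPQ,
      sub_eq_zero]
    ext i j : 1
    exact (hφ _).symm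
  have hd2 : d2.map (mapRingHom (algebraMap ((A[X])[X]) L)) = 0 := by
    simp only [d2]
    rw [Matrix.map_sub _ (by intro a b; exact map_sub _ a b), Matrix.map_mul, hum, hwm, ← Matrix.map_mul, hQP,
      sub_eq_zero]
    ext i j : 1
    exact (hφ _).symm
  have hd10 : d1.map ev0 = 0 := by
    simp only [d1]
    rw [Matrix.map_sub _ (by intro a b; exact map_sub _ a b), Matrix.map_mul, hu00, hw00, hc11, sub_eq_zero]
    ext i j : 1
    simp only [Matrix.map_apply, hφ0]
    exact (RingHom.congr_fun hσ0 (e i j)).symm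
  have hd20 : d2.map ev0 = 0 := by
    simp only [d2]
    rw [Matrix.map_sub _ (by intro a b; exact map_sub _ a b), Matrix.map_mul, hu00, hw00, hc11, sub_eq_zero]
    ext i j : 1
    simp only [Matrix.map_apply, hφ0]
    rfl
  choose K1 hK1 using fun i j => exists_sc_eq_zero (S := L) f0 (d1 i j)
    (by simpa [ev0] using congrFun (congrFun hd10 i) j)
    (by simpa using congrFun (congrFun hd1 i) j)
  choose K2 hK2 using fun i j => exists_sc_eq_zero (S := L) f0 (d2 i j)
    (by simpa [ev0] using congrFun (congrFun hd20 i) j)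
    (by simpa using congrFun (congrFun hd2 i) j)
  let K := (Finset.univ.sup fun i => Finset.univ.sup fun j => K1 i j) ⊔
    (Finset.univ.sup fun i => Finset.univ.sup fun j => K2 i j)
  have hleK : ∀ i j, K1 i j ≤ K ∧ K2 i j ≤ K := fun i j =>
    ⟨((Finset.le_sup (f := fun j => K1 i j) (Finset.mem_univ j)).trans
        (Finset.le_sup (f := fun i => Finset.univ.sup fun j => K1 i j) (Finset.mem_univ i))).trans
        le_sup_left,
      ((Finset.le_sup (f := fun j => K2 i j) (Finset.mem_univ j)).trans
        (Finset.le_sup (f := fun i => Finset.univ.sup fun j => K2 i j) (Finset.mem_univ i))).trans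
        le_sup_right⟩
  let φK := sc (f0 ^ K)
  have hd1K : u'.map φK * w'.map φK = (e2.map φ).map φK := by
    rw [← Matrix.map_mul, ← sub_eq_zero, ← Matrix.map_sub _ (by intro a b; exact map_sub _ a b)]
    ext i j : 1
    exact hK1 i j K (hleK i j).1
  have hd2K : w'.map φK * u'.map φK = (e1.map φ).map φK := by
    rw [← Matrix.map_mul, ← sub_eq_zero, ← Matrix.map_sub _ (by intro a b; exact map_sub _ a b)]
    ext i j : 1
    exact hK2 i j K (hleK i j).2
  refine ⟨N1 + K, fun a c => ?_⟩
  let sp : ((A[X])[X])[X] →+* A[X] := eval₂RingHom (evalRingHom (C a : A[X])) (C c)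
  have hsp1 : ((sp.comp φK).comp φ).comp (σ x1) = sub a := by
    refine ringHom_ext (fun b => ?_) ?_
    · simp [σ, sp, φK, φ, sc, coe_evalRingHom, ψ, sub]
    · simp [σ, sp, φK, φ, sc, coe_evalRingHom, x1, sub]
  have hsp2 : ((sp.comp φK).comp φ).comp (σ x2) = sub (a + f ^ (N1 + K) * c) := by
    refine ringHom_ext (fun b => ?_) ?_
    · simp [σ, sp, φK, φ, sc, coe_evalRingHom, ψ, sub]
    · simp [σ, sp, φK, φ, sc, coe_evalRingHom, x2, sub, f0, eval₂_pow, eval₂_C]
      ring
  refine ⟨(u'.map φK).map sp, (w'.map φK).map sp, ?_, ?_⟩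
  · rw [← Matrix.map_mul, hd1K]
    ext i j : 1
    exact RingHom.congr_fun hsp2 (e i j)
  · rw [← Matrix.map_mul, hd2K]
    ext i j : 1
    exact RingHom.congr_fun hsp1 (e i j)

/-- Spreading out a trivialisation at a prime. -/
theorem exists_away_trivial {e : Matrix (Fin n) (Fin n) A[X]} (m : Ideal A) [m.IsPrime]
    {Am : Type u} [CommRing Am] [Algebra A Am] [IsLocalization.AtPrime Am m]
    {r : ℕ} (α : Matrix (Fin n) (Fin r) Am[X]) (β : Matrix (Fin r) (Fin n) Am[X])
    (hαβ : α * β = e.map (mapRingHom (algebraMap A Am))) (hβα : β * α = 1) :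
    ∃ f ∉ m, ∃ (α' : Matrix (Fin n) (Fin r) (Localization.Away f)[X])
      (β' : Matrix (Fin r) (Fin n) (Localization.Away f)[X]),
      α' * β' = e.map (mapRingHom (algebraMap A (Localization.Away f))) ∧ β' * α' = 1 := by
  classical
  -- common denominators
  let S : Finset Am := (Finset.univ.biUnion fun i => Finset.univ.biUnion fun j =>
    (α i j).support.image (α i j).coeff) ∪ (Finset.univ.biUnion fun i => Finset.univ.biUnion fun j =>
    (β i j).support.image (β i j).coeff)
  obtain ⟨⟨s, hs⟩, hS⟩ := IsLocalization.exist_integer_multiples_of_finset m.primeCompl S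
  have hlift : ∀ p : Am[X], (∀ k ∈ p.support, p.coeff k ∈ S) →
      ∃ q : A[X], q.map (algebraMap A Am) = C (algebraMap A Am s) * p := by
    intro p hp
    refine (mem_lifts _).mp ((lifts_iff_coeff_lifts _).mpr fun k => ?_)
    rw [coeff_C_mul]
    by_cases hk : k ∈ p.support
    · obtain ⟨y, hy⟩ := hS _ (hp k hk)
      exact ⟨y, by rw [hy]; simp [Algebra.smul_def]⟩
    · exact ⟨0, by simp [notMem_support_iff.mp hk]⟩
  choose a ha using fun i j => hlift (α i j) (fun k hk => by
    refine Finset.mem_union_left _ ?_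
    simp only [Finset.mem_biUnion, Finset.mem_univ, true_and, Finset.mem_image]
    exact ⟨i, j, k, hk, rfl⟩)
  choose b hb using fun i j => hlift (β i j) (fun k hk => by
    refine Finset.mem_union_right _ ?_
    simp only [Finset.mem_biUnion, Finset.mem_univ, true_and, Finset.mem_image]
    exact ⟨i, j, k, hk, rfl⟩)
  let a' : Matrix (Fin n) (Fin r) A[X] := Matrix.of a
  let b' : Matrix (Fin r) (Fin n) A[X] := Matrix.of b
  let μ := mapRingHom (algebraMap A Am)
  let cs : A[X] := C s
  have ha' : a'.map μ = μ cs • α := by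
    ext i j : 1
    simpa [a', μ, cs] using ha i j
  have hb' : b'.map μ = μ cs • β := by
    ext i j : 1
    simpa [b', μ, cs] using hb i j
  have hkill : ∀ {κ : Type} [Fintype κ] (M : Matrix κ κ A[X]), M.map μ = 0 →
      ∃ t ∈ m.primeCompl, C t • M = 0 := by
    intro κ _ M hM
    have hk : ∀ (ijk : κ × κ) (k : ℕ), ∃ t ∈ m.primeCompl, t * (M ijk.1 ijk.2).coeff k = 0 := by
      intro ijk k
      have h1 : algebraMap A Am ((M ijk.1 ijk.2).coeff k) = algebraMap A Am 0 := by
        have := congrFun (congrFun hM ijk.1) ijk.2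
        simp only [Matrix.map_apply, Matrix.zero_apply, μ, coe_mapRingHom] at this
        rw [← coeff_map, this, coeff_zero, map_zero]
      obtain ⟨⟨t, ht⟩, h⟩ := (IsLocalization.eq_iff_exists m.primeCompl Am).mp h1
      exact ⟨t, ht, by simpa using h⟩
    choose t ht htz using hk
    refine ⟨∏ ijk : κ × κ, ∏ k ∈ (M ijk.1 ijk.2).support, t ijk k,
      prod_mem fun _ _ => prod_mem fun _ _ => ht _ _, ?_⟩
    ext i j k
    simp only [Matrix.smul_apply, smul_eq_mul, coeff_C_mul, Matrix.zero_apply, coeff_zero]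
    by_cases hk : k ∈ (M i j).support
    · rw [← Finset.mul_prod_erase _ _ (Finset.mem_univ (i, j)),
        ← Finset.mul_prod_erase _ _ hk]
      linear_combination (∏ x ∈ (M i j).support.erase k, t (i, j) x) *
        (∏ x ∈ Finset.univ.erase (i, j), ∏ l ∈ (M x.1 x.2).support, t x l) * htz (i, j) k
    · simp [notMem_support_iff.mp hk]
  obtain ⟨t1, ht1, hz1⟩ := hkill (a' * b' - (cs * cs) • e) (by
    rw [Matrix.map_sub _ (by intro a b; exact map_sub _ a b), Matrix.map_mul, ha', hb', Matrix.smul_mul,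
      Matrix.mul_smul, hαβ, smul_smul, sub_eq_zero]
    ext i j : 1
    simp [μ])
  obtain ⟨t2, ht2, hz2⟩ := hkill (b' * a' - (cs * cs) • (1 : Matrix (Fin r) (Fin r) A[X])) (by
    rw [Matrix.map_sub _ (by intro a b; exact map_sub _ a b), Matrix.map_mul, ha', hb', Matrix.smul_mul,
      Matrix.mul_smul, hβα, smul_smul, sub_eq_zero]
    ext i j : 1
    by_cases hij : i = j <;> simp [μ, hij])
  refine ⟨s * (t1 * t2), mul_mem (s := m.primeCompl) hs (mul_mem ht1 ht2), ?_⟩
  let ν := mapRingHom (algebraMap A (Localization.Away (s * (t1 * t2))))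
  have hu : IsUnit (algebraMap A (Localization.Away (s * (t1 * t2))) (s * (t1 * t2))) :=
    IsLocalization.Away.algebraMap_isUnit _
  rw [map_mul, map_mul, IsUnit.mul_iff, IsUnit.mul_iff] at hu
  obtain ⟨hus, hu1, hu2⟩ := hu
  have hucs : IsUnit (ν cs) := by simpa [ν, cs] using hus.map C
  obtain ⟨v, hv⟩ := hucs.exists_left_inv
  refine ⟨v • a'.map ν, v • b'.map ν, ?_, ?_⟩
  · have h : (a' * b' - (cs * cs) • e).map ν = 0 := by
      have := congrArg (fun M : Matrix (Fin n) (Fin n) A[X] => M.map ν) hz1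
      ext i j : 1
      have h2 := congrFun (congrFun this i) j
      simp only [Matrix.map_apply, Matrix.smul_apply, smul_eq_mul, map_mul, Matrix.zero_apply,
        map_zero] at h2 ⊢
      exact ((show IsUnit (ν (C t1)) by simpa [ν] using hu1.map C).mul_right_eq_zero).mp h2
    rw [Matrix.map_sub _ (by intro a b; exact map_sub _ a b), Matrix.map_mul, sub_eq_zero] at h
    rw [Matrix.smul_mul, Matrix.mul_smul, h, smul_smul]
    ext i j : 1
    simp only [Matrix.smul_apply, Matrix.map_apply, smul_eq_mul, map_mul]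
    linear_combination ν (e i j) * (v * ν cs + 1) * hv
  · have h : (b' * a' - (cs * cs) • (1 : Matrix (Fin r) (Fin r) A[X])).map ν = 0 := by
      have := congrArg (fun M : Matrix (Fin r) (Fin r) A[X] => M.map ν) hz2
      ext i j : 1
      have h2 := congrFun (congrFun this i) j
      simp only [Matrix.map_apply, Matrix.smul_apply, smul_eq_mul, map_mul, Matrix.zero_apply,
        map_zero] at h2 ⊢
      exact ((show IsUnit (ν (C t2)) by simpa [ν] using hu2.map C).mul_right_eq_zero).mp h2
    rw [Matrix.map_sub _ (by intro a b; exact map_sub _ a b), Matrix.map_mul, sub_eq_zero] at h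
    rw [Matrix.smul_mul, Matrix.mul_smul, h, smul_smul]
    ext i j : 1
    by_cases hij : i = j
    · subst hij
      simp only [Matrix.smul_apply, Matrix.map_apply, smul_eq_mul, map_mul, Matrix.one_apply_eq,
        map_one]
      linear_combination (v * ν cs + 1) * hv
    · simp [hij]

/-- An idempotent that is locally trivial is equivalent to its value at `0`. -/
theorem eqv_eval_zero {e : Matrix (Fin n) (Fin n) A[X]} (he : e * e = e)
    (h : ∀ m : Ideal A, ∀ [m.IsMaximal], ∃ r : ℕ,
      Eqv (e.map (mapRingHom (algebraMap A (Localization.AtPrime m))))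
        (1 : Matrix (Fin r) (Fin r) (Localization.AtPrime m)[X])) :
    Eqv e ((e.map (evalRingHom 0)).map C) := by
  let J : Ideal A :=
    { carrier := {l | ∀ a c : A, Eqv (E e a) (E e (a + l * c))}
      zero_mem' := fun a c => by simpa using Eqv.refl (E_idem he a)
      add_mem' := fun {l l'} hl hl' a c => by
        have := Eqv.trans (E_idem he _) (E_idem he _) (hl a c) (hl' (a + l * c) c)
        rwa [show a + l * c + l' * c = a + (l + l') * c by ring] at this
      smul_mem' := fun x l hl a c => by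
        have := hl a (x * c)
        rwa [show a + l * (x * c) = a + (x • l) * c by rw [smul_eq_mul]; ring] at this }
  have hJ : J = ⊤ := by
    by_contra hJ
    obtain ⟨m, hm, hJm⟩ := Ideal.exists_le_maximal J hJ
    obtain ⟨r, β, α, h1, h2⟩ := h m
    obtain ⟨f, hf, α', β', h1', h2'⟩ := exists_away_trivial m α β h2 h1
    obtain ⟨N, hN⟩ := exists_pow_eqv he f α' β' h1' h2'
    exact hf (hm.isPrime.mem_of_pow_mem N (hJm (fun a c => hN a c)))
  have h1 : (-1 : A) ∈ J := hJ ▸ Submodule.mem_top
  have := h1 1 1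
  rwa [show (1 : A) + -1 * 1 = 0 by ring, E_one, E_zero] at this

end GrothLib.Horrocks
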