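/-
Affine Horrocks theorem over a local ring, in matrix form: an idempotent matrix over `R[X]` which
becomes trivial after inverting a monic polynomial is trivial.
-/
import Groth.Agent.Lib.Horrocks.Patch
import Mathlib.RingTheory.LocalRing.ResidueField.Basic
import Mathlib.RingTheory.Nakayama
import Mathlib.RingTheory.Finiteness.Nakayama
import Mathlib.RingTheory.Finiteness.Basic
import Mathlib.Algebra.Polynomial.Div
import Mathlib.Algebra.Polynomial.FieldDivision
import Mathlib.RingTheory.OrzechProperty
import Mathlib.RingTheory.FiniteType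

set_option autoImplicit false

namespace GrothLib.Horrocks

open Polynomial Matrix IsLocalRing

universe u

/-- A monomial complement of a submodule of `k[X]^r` of full rank. -/
theorem staircase {k : Type*} [Field k] {r : ℕ} (P : Submodule k[X] (Fin r → k[X])) {g : k[X]}
    (hg : g ≠ 0) (hgP : ∀ v : Fin r → k[X], g • v ∈ P) :
    ∃ d : Fin r → ℕ, (∀ v : Fin r → k[X], ∃ p ∈ P, ∀ j, (v j - p j).degree < (d j : WithBot ℕ)) ∧
      ∀ v ∈ P, (∀ j, (v j).degree < (d j : WithBot ℕ)) → v = 0 := by
  classical
  let Q : Fin r → ℕ → Prop := fun j d =>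
    ∃ h ∈ P, (∀ l, j < l → h l = 0) ∧ h j ≠ 0 ∧ (h j).natDegree = d
  have hQ : ∀ j, ∃ d, Q j d := fun j =>
    ⟨_, g • Pi.single j 1, hgP _, fun l hl => by simp [hl.ne'], by simpa using hg, rfl⟩
  let d : Fin r → ℕ := fun j => Nat.find (hQ j)
  have hd : ∀ j, Q j (d j) := fun j => Nat.find_spec (hQ j)
  choose h hP hsupp hne hdeg using hd
  refine ⟨d, fun v => ?_, fun v hv hlt => ?_⟩
  · suffices H : ∀ (m : ℕ) (v : Fin r → k[X]), (∀ l : Fin r, m ≤ (l : ℕ) → v l = 0) →
        ∃ p ∈ P, ∀ j, (v j - p j).degree < (d j : WithBot ℕ) from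
      H r v fun l hl => absurd l.isLt (not_lt.mpr hl)
    intro m
    induction m with
    | zero =>
      intro v hv
      exact ⟨0, P.zero_mem, fun j => by
        rw [hv j (Nat.zero_le _)]
        simp only [Pi.zero_apply, sub_zero, degree_zero]
        exact WithBot.bot_lt_coe _⟩
    | succ m ih =>
      intro v hv
      by_cases hm : m < r
      · let j : Fin r := ⟨m, hm⟩
        let q := v j / h j j
        have hrem : (v j - q * h j j).degree < (d j : WithBot ℕ) := by
          rw [show v j - q * h j j = v j % h j j by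
            rw [EuclideanDomain.mod_eq_sub_mul_div]; ring]
          rw [← hdeg j, ← degree_eq_natDegree (hne j)]
          exact EuclideanDomain.mod_lt _ (hne j)
        obtain ⟨p, hp, hpd⟩ := ih (v - q • h j - Pi.single j (v j - q * h j j)) (fun l hl => by
          rcases eq_or_ne l j with rfl | hlj
          · simp
          · have hjl : j < l := lt_of_le_of_ne hl (Ne.symm hlj)
            simp [hlj, hsupp j l hjl, hv l (Nat.succ_le_of_lt hjl)])
        refine ⟨q • h j + p, P.add_mem (P.smul_mem _ (hP j)) hp, fun l => ?_⟩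
        rcases eq_or_ne l j with rfl | hlj
        · have := hpd j
          simp only [Pi.sub_apply, Pi.smul_apply, smul_eq_mul, Pi.single_eq_same, sub_self,
            zero_sub, degree_neg] at this
          rw [show v j - (q • h j + p) j = (v j - q * h j j) - p j by simp; ring]
          exact lt_of_le_of_lt (degree_sub_le _ _) (max_lt hrem this)
        · have := hpd l
          simp only [Pi.sub_apply, Pi.smul_apply, smul_eq_mul, Pi.single_eq_of_ne hlj, sub_zero]
            at this
          rw [show v l - (q • h j + p) l = v l - q * h j l - p l by simp; ring]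
          exact this
      · exact ih v fun l hl => absurd l.isLt (by omega)
  · by_contra hv0
    obtain ⟨l0, hl0⟩ := Function.ne_iff.mp hv0
    let s := Finset.univ.filter fun l => v l ≠ 0
    have hs : s.Nonempty := ⟨l0, by simpa [s] using hl0⟩
    let j := s.max' hs
    have hj : v j ≠ 0 := (Finset.mem_filter.mp (s.max'_mem hs)).2
    have hQj : Q j (v j).natDegree := by
      refine ⟨v, hv, fun l hl => ?_, hj, rfl⟩
      by_contra hl'
      exact absurd (s.le_max' l (by simpa [s] using hl')) (not_le.mpr hl)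
    exact absurd (Nat.find_min' (hQ j) hQj) (not_le.mpr ((natDegree_lt_iff_degree_lt hj).mpr (hlt j)))

variable {R : Type u} [CommRing R] {r n : ℕ}

/-- Tuples of polynomials with prescribed degree bounds. -/
noncomputable def bdd (d : Fin r → ℕ) : Submodule R (Fin r → R[X]) :=
  Submodule.pi Set.univ fun j => degreeLT R (d j)

lemma mem_bdd {d : Fin r → ℕ} {v : Fin r → R[X]} :
    v ∈ bdd d ↔ ∀ j, (v j).degree < (d j : WithBot ℕ) := by
  simp [bdd, mem_degreeLT]

lemma bdd_finite (d : Fin r → ℕ) : Module.Finite R (bdd (R := R) d) := by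
  refine Module.Finite.of_fg (Submodule.fg_pi fun j => ?_)
  classical rw [degreeLT_eq_span_X_pow]
  exact Submodule.fg_span (Finset.finite_toSet _)

lemma smul_mem_smul_top {M : Type*} [AddCommGroup M] [Module R M] [Module R[X] M]
    [IsScalarTower R R[X] M] (I : Ideal R) {y : R[X]} (hy : y ∈ I.map (C : R →+* R[X])) (x : M) :
    y • x ∈ I • (⊤ : Submodule R M) := by
  rw [Ideal.map] at hy
  induction hy using Submodule.span_induction generalizing x with
  | mem y hy =>
    obtain ⟨t, ht, rfl⟩ := hy
    rw [← Polynomial.algebraMap_eq, algebraMap_smul]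
    exact Submodule.smul_mem_smul ht Submodule.mem_top
  | zero => simp
  | add a b _ _ ha hb => rw [add_smul]; exact add_mem (ha x) (hb x)
  | smul q a _ ha =>
    rw [smul_eq_mul, mul_comm, mul_smul]
    exact ha _

variable [IsLocalRing R]

lemma mem_smul_top_of_map_eq_zero {v : Fin r → R[X]} (h : ∀ j, (v j).map (residue R) = 0) :
    v ∈ maximalIdeal R • (⊤ : Submodule R (Fin r → R[X])) := by
  classical
  rw [← Finset.univ_sum_single v]
  refine Submodule.sum_mem _ fun j _ => ?_
  have hj : v j ∈ Ideal.map (C : R →+* R[X]) (maximalIdeal R) := by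
    rw [Ideal.mem_map_C_iff]
    intro i
    rw [← residue_eq_zero_iff, ← coeff_map, h j, coeff_zero]
  have := smul_mem_smul_top (M := Fin r → R[X]) _ hj (Pi.single j 1)
  rwa [← Pi.single_smul', smul_eq_mul, mul_one] at this

/-- Affine Horrocks, local case. -/
theorem horrocks_local (e : Matrix (Fin n) (Fin n) R[X]) (he : e * e = e)
    (a : Matrix (Fin n) (Fin r) R[X]) (b : Matrix (Fin r) (Fin n) R[X]) {g : R[X]} (hg : g.Monic)
    (hab : a * b = g • e) (hba : b * a = g • (1 : Matrix (Fin r) (Fin r) R[X])) :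
    ∃ m : ℕ, Eqv e (1 : Matrix (Fin m) (Fin m) R[X]) := by
  classical
  have greg : ∀ {x y : R[X]}, g * x = g * y → x = y := fun h => hg.isRegular.left h
  have gregM : ∀ {p q : ℕ} {M M' : Matrix (Fin p) (Fin q) R[X]}, g • M = g • M' → M = M' := by
    intro p q M M' h
    ext i j : 1
    exact greg (by simpa using congrFun (congrFun h i) j)
  let c := b * e
  let a' := e * a
  have hce : c * e = c := by simp only [c]; rw [Matrix.mul_assoc, he]
  have hac : a' * c = g • e := by
    simp only [a', c]
    rw [Matrix.mul_assoc, ← Matrix.mul_assoc a, hab, Matrix.smul_mul, Matrix.mul_smul, he, he]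
  have hca : c * a' = g • 1 := by
    apply gregM
    simp only [a', c]
    rw [Matrix.mul_assoc, ← Matrix.mul_assoc e, he]
    calc g • (b * (e * a)) = b * ((g • e) * a) := by rw [Matrix.smul_mul, Matrix.mul_smul]
      _ = (b * a) * (b * a) := by rw [← hab]; simp only [Matrix.mul_assoc]
      _ = _ := by rw [hba, Matrix.smul_mul, Matrix.one_mul]
  let σ : R[X] →+* (ResidueField R)[X] := mapRingHom (residue R)
  have hσsurj : Function.Surjective σ := map_surjective _ residue_surjective
  have hσmul : ∀ {p q : ℕ} (M : Matrix (Fin p) (Fin q) R[X]) (v : Fin q → R[X]) (i : Fin p),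
      σ ((M *ᵥ v) i) = (M.map σ *ᵥ fun l => σ (v l)) i := fun M v i => RingHom.map_mulVec σ M v i
  -- the staircase of the special fibre
  have hgk : σ g ≠ 0 := (hg.map _).ne_zero
  let Pk := LinearMap.range (c.map σ).mulVecLin
  obtain ⟨d, hd1, hd2⟩ := staircase Pk hgk (fun v => ⟨(a'.map σ) *ᵥ v, by
    have h1 : c.map σ * a'.map σ = σ g • 1 := by
      rw [← Matrix.map_mul, hca]
      ext i j : 1
      by_cases hij : i = j <;> simp [hij]
    rw [mulVecLin_apply, mulVec_mulVec, h1, smul_mulVec, one_mulVec]⟩)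
  let P := LinearMap.range c.mulVecLin
  let G := bdd (R := R) d
  have hgF : ∀ v : Fin r → R[X], g • v ∈ P := fun v => ⟨a' *ᵥ v, by
    rw [mulVecLin_apply, mulVec_mulVec, hca, smul_mulVec, one_mulVec]⟩
  -- Nakayama: `F = P + G`
  have hT : ∀ v : Fin r → R[X], ∃ p ∈ P, v - p ∈ G := by
    let T := P.restrictScalars R ⊔ G
    suffices hTtop : T = ⊤ by
      intro v
      obtain ⟨p, hp, γ, hγ, rfl⟩ := Submodule.mem_sup.mp (show v ∈ T by rw [hTtop]; trivial)
      exact ⟨p, hp, by simpa using hγ⟩
    haveI : Module.Finite R (bdd (R := R) (r := r) fun _ => g.natDegree) := bdd_finite _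
    haveI : Module.Finite R ((Fin r → R[X]) ⧸ T) := by
      refine Module.Finite.of_surjective
        (T.mkQ.comp (bdd (R := R) (r := r) fun _ => g.natDegree).subtype) ?_
      intro x
      obtain ⟨v, rfl⟩ := T.mkQ_surjective x
      refine ⟨⟨fun j => v j %ₘ g, mem_bdd.mpr fun j => ?_⟩, ?_⟩
      · rw [← degree_eq_natDegree hg.ne_zero]
        exact degree_modByMonic_lt _ hg
      · rw [LinearMap.comp_apply, Submodule.mkQ_apply, Submodule.mkQ_apply, Submodule.Quotient.eq]
        refine Submodule.mem_sup_left ?_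
        have := neg_mem (hgF (fun j => v j /ₘ g))
        rw [show -(g • fun j => v j /ₘ g) = (fun j => v j %ₘ g) - v by
          ext j : 1
          simp only [Pi.neg_apply, Pi.smul_apply, smul_eq_mul, Pi.sub_apply]
          linear_combination -(modByMonic_add_div (v j) g)] at this
        exact this
    have hN : (⊤ : Submodule R ((Fin r → R[X]) ⧸ T)) ≤ ⊥ := by
      refine Submodule.le_of_le_smul_of_le_jacobson_bot Module.Finite.fg_top
        (IsLocalRing.maximalIdeal_le_jacobson _) ?_
      intro x _
      obtain ⟨v, rfl⟩ := T.mkQ_surjective x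
      rw [bot_sup_eq]
      obtain ⟨pk, ⟨wk, rfl⟩, hpk⟩ := hd1 (fun j => σ (v j))
      choose w hw using fun l => hσsurj (wk l)
      choose q hq using fun j => hσsurj (σ (v j) - (c.map σ *ᵥ wk) j)
      let γ : Fin r → R[X] := fun j => q j %ₘ X ^ d j
      have hγ : γ ∈ G := mem_bdd.mpr fun j => by
        have := degree_modByMonic_lt (q j) (monic_X_pow (R := R) (d j))
        rwa [degree_X_pow] at this
      have hγσ : ∀ j, σ (γ j) = σ (v j) - (c.map σ *ᵥ wk) j := by
        intro j
        simp only [γ, σ, coe_mapRingHom]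
        rw [map_modByMonic _ (monic_X_pow _), Polynomial.map_pow, map_X]
        have h1 := hq j
        simp only [σ, coe_mapRingHom] at h1
        rw [h1, modByMonic_eq_self_iff (monic_X_pow _), degree_X_pow]
        exact hpk j
      have hz : v - c *ᵥ w - γ ∈ maximalIdeal R • (⊤ : Submodule R (Fin r → R[X])) :=
        mem_smul_top_of_map_eq_zero fun j => by
          change σ ((v - c *ᵥ w - γ) j) = 0
          simp only [Pi.sub_apply, map_sub, hγσ, hσmul, hw]
          ring
      have h2 : T.mkQ v = T.mkQ (v - c *ᵥ w - γ) := by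
        rw [Submodule.mkQ_apply, Submodule.mkQ_apply, Submodule.Quotient.eq]
        rw [show v - (v - c *ᵥ w - γ) = c *ᵥ w + γ by abel]
        exact add_mem (Submodule.mem_sup_left ⟨w, rfl⟩) (Submodule.mem_sup_right hγ)
      rw [h2]
      have := Submodule.mem_map_of_mem (f := T.mkQ) hz
      rwa [Submodule.map_smul'', Submodule.map_top, Submodule.range_mkQ] at this
    exact eq_top_iff.mpr fun v _ => (Submodule.Quotient.mk_eq_zero T).mp
      ((Submodule.mem_bot R).mp (hN (Submodule.mem_top (x := T.mkQ v))))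
  choose p hpP hpG using fun j : Fin r => hT (Pi.single j (X ^ d j))
  choose V hV using hpP
  let Vm : Matrix (Fin n) (Fin r) R[X] := Matrix.of fun i j => V j i
  let Γ := c * Vm
  have hΓ : ∀ j, Γ *ᵥ Pi.single j 1 = p j := by
    intro j
    rw [← mulVec_mulVec, mulVec_single_one, ← hV j, mulVecLin_apply]
    rfl
  let S := LinearMap.range Γ.mulVecLin
  have hSP : S ≤ P := by
    rintro _ ⟨x, rfl⟩
    exact ⟨Vm *ᵥ x, by simp [Γ, mulVecLin_apply, mulVec_mulVec]⟩
  -- `F = S + G`
  let T' := S.restrictScalars R ⊔ G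
  have hmono : ∀ j, Pi.single j (X ^ d j) ∈ T' := fun j => by
    rw [show Pi.single j (X ^ d j) = p j + (Pi.single j (X ^ d j) - p j) by abel]
    exact add_mem (Submodule.mem_sup_left ⟨_, hΓ j⟩) (Submodule.mem_sup_right (hpG j))
  have hX : ∀ x ∈ T', (X : R[X]) • x ∈ T' := by
    intro x hx
    obtain ⟨s, hs, γ, hγ, rfl⟩ := Submodule.mem_sup.mp hx
    rw [smul_add]
    refine add_mem (Submodule.mem_sup_left (S.smul_mem _ hs)) ?_
    have hd' : (X : R[X]) • γ = (∑ l, ((X * γ l).coeff (d l)) • Pi.single l (X ^ d l)) +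
        fun l => X * γ l - C ((X * γ l).coeff (d l)) * X ^ d l := by
      funext l
      simp only [Pi.smul_apply, Pi.add_apply, Finset.sum_apply, smul_eq_mul]
      rw [Finset.sum_eq_single l (fun b _ hb => by simp [hb.symm]) (by simp),
        Pi.single_eq_same, ← C_mul']
      ring
    rw [hd']
    refine add_mem (Submodule.sum_mem _ fun l _ => T'.smul_mem _ (hmono l))
      (Submodule.mem_sup_right (mem_bdd.mpr fun l => (degree_lt_iff_coeff_zero _ _).mpr fun i hi => ?_))
    have hγl := mem_bdd.mp hγ l
    rcases eq_or_lt_of_le hi with rfl | hi'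
    · simp
    · obtain ⟨i, rfl⟩ : ∃ i', i = i' + 1 := ⟨i - 1, by omega⟩
      rw [coeff_sub, coeff_X_mul, coeff_C_mul_X_pow, if_neg (by omega),
        (degree_lt_iff_coeff_zero _ _).mp hγl i (by omega), sub_zero]
  have hT' : T' = ⊤ := by
    refine eq_top_iff.mpr fun v _ => ?_
    rw [← Finset.univ_sum_single v]
    refine Submodule.sum_mem _ fun j _ => ?_
    have h1 : Pi.single j (1 : R[X]) ∈ T' := by
      rcases Nat.eq_zero_or_pos (d j) with h0 | h0
      · simpa [h0] using hmono j
      · refine Submodule.mem_sup_right (mem_bdd.mpr fun l => ?_)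
        rcases eq_or_ne l j with rfl | hlj
        · rw [Pi.single_eq_same, degree_one]
          exact_mod_cast h0
        · rw [Pi.single_eq_of_ne hlj, degree_zero]
          exact WithBot.bot_lt_coe _
    have h2 : ∀ i : ℕ, (X ^ i : R[X]) • Pi.single j (1 : R[X]) ∈ T' := by
      intro i
      induction i with
      | zero => simpa using h1
      | succ i ih => rw [pow_succ', mul_smul]; exact hX _ ih
    rw [← mul_one (v j), ← smul_eq_mul, Pi.single_smul', as_sum_range (v j), Finset.sum_smul]
    refine Submodule.sum_mem _ fun i _ => ?_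
    rw [← C_mul_X_pow_eq_monomial, mul_smul, ← Polynomial.algebraMap_eq, algebraMap_smul]
    exact T'.smul_mem _ (h2 i)
  -- `P = S`
  have hPS : P ≤ S := by
    let K : Submodule R[X] ((Fin r → R[X]) ⧸ S) := P.map S.mkQ
    have hKfg : K.FG := Submodule.FG.map _ (by
      simp only [P, LinearMap.range_eq_map]
      exact Submodule.FG.map _ Module.Finite.fg_top)
    have hKle : K ≤ (maximalIdeal R).map (C : R →+* R[X]) • K := by
      rintro _ ⟨x, hx, rfl⟩
      obtain ⟨s, hs, γ, hγ, rfl⟩ := Submodule.mem_sup.mp (show x ∈ T' by rw [hT']; trivial)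
      have hγP : γ ∈ P := by simpa using P.sub_mem hx (hSP hs)
      obtain ⟨w, hw⟩ := hγP
      rw [mulVecLin_apply] at hw
      have hγ0 : (fun j => σ (γ j)) = 0 := by
        refine hd2 _ ⟨fun l => σ (w l), ?_⟩ fun j =>
          lt_of_le_of_lt degree_map_le (mem_bdd.mp hγ j)
        funext j
        rw [mulVecLin_apply, ← hw, hσmul]
      have hew : ∀ i, σ ((e *ᵥ w) i) = 0 := by
        intro i
        have h1 : a' *ᵥ γ = g • (e *ᵥ w) := by rw [← hw, mulVec_mulVec, hac, smul_mulVec]
        have h2 : σ g * σ ((e *ᵥ w) i) = 0 := by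
          have h3 := hσmul a' γ i
          rw [h1, hγ0, mulVec_zero, Pi.smul_apply, smul_eq_mul, map_mul] at h3
          exact h3
        exact (mul_eq_zero.mp h2).resolve_left hgk
      have hmem : ∀ i, (e *ᵥ w) i ∈ (maximalIdeal R).map (C : R →+* R[X]) := by
        intro i
        rw [Ideal.mem_map_C_iff]
        intro k
        rw [← residue_eq_zero_iff, ← coeff_map]
        have := hew i
        simp only [σ, coe_mapRingHom] at this
        rw [this, coeff_zero]
      rw [map_add, show S.mkQ s = 0 from (Submodule.Quotient.mk_eq_zero S).mpr hs, zero_add, ← hw,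
        ← hce, ← mulVec_mulVec, ← Finset.univ_sum_single (e *ᵥ w), mulVec_sum, map_sum]
      refine Submodule.sum_mem _ fun i _ => ?_
      rw [← mul_one ((e *ᵥ w) i), ← smul_eq_mul, Pi.single_smul', mulVec_smul, map_smul]
      exact Submodule.smul_mem_smul (hmem i) ⟨_, ⟨Pi.single i 1, rfl⟩, rfl⟩
    obtain ⟨q, hq, hqK⟩ :=
      Submodule.exists_sub_one_mem_and_smul_eq_zero_of_fg_of_le_smul _ K hKfg hKle
    haveI : Module.Finite R G := bdd_finite _
    haveI : Module.Finite R ((Fin r → R[X]) ⧸ S) := by
      refine Module.Finite.of_surjective ((S.mkQ.restrictScalars R).comp G.subtype) ?_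
      intro x
      obtain ⟨v, rfl⟩ := S.mkQ_surjective x
      obtain ⟨s, hs, γ, hγ, rfl⟩ := Submodule.mem_sup.mp (show v ∈ T' by rw [hT']; trivial)
      exact ⟨⟨γ, hγ⟩, by simp [(Submodule.Quotient.mk_eq_zero S).mpr hs]⟩
    let μ : ((Fin r → R[X]) ⧸ S) →ₗ[R] ((Fin r → R[X]) ⧸ S) :=
      (q • LinearMap.id : ((Fin r → R[X]) ⧸ S) →ₗ[R[X]] _).restrictScalars R
    have hμ : Function.Surjective μ := by
      rw [← LinearMap.range_eq_top, eq_top_iff]
      refine Submodule.le_of_le_smul_of_le_jacobson_bot Module.Finite.fg_top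
        (IsLocalRing.maximalIdeal_le_jacobson _) ?_
      intro x _
      rw [show x = μ x - (q - 1) • x by simp [μ, sub_smul]]
      exact sub_mem (Submodule.mem_sup_left ⟨x, rfl⟩)
        (Submodule.mem_sup_right (smul_mem_smul_top _ hq x))
    have hinj : Function.Injective μ := OrzechProperty.injective_of_surjective_endomorphism μ hμ
    intro x hx
    rw [← Submodule.Quotient.mk_eq_zero S]
    exact hinj ((hqK _ ⟨x, hx, rfl⟩).trans (map_zero μ).symm)
  -- `Γ` is injective
  have hΓinj : ∀ x : Fin r → R[X], Γ *ᵥ x = 0 → x = 0 := by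
    intro x hx
    by_contra hx0
    obtain ⟨l0, hl0⟩ := Function.ne_iff.mp hx0
    let s := Finset.univ.filter fun l => x l ≠ 0
    obtain ⟨l, hl, hmax⟩ := s.exists_max_image (fun l => (x l).natDegree) ⟨l0, by simpa [s] using hl0⟩
    have hl' : x l ≠ 0 := (Finset.mem_filter.mp hl).2
    have hcol : ∀ j, Γ l j = (Pi.single j (X ^ d j) : Fin r → R[X]) l -
        ((Pi.single j (X ^ d j) : Fin r → R[X]) - p j) l := by
      intro j
      have := congrFun (hΓ j) l
      rw [mulVec_single_one, col_apply] at this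
      rw [this, Pi.sub_apply, sub_sub_cancel]
    have heq := congrArg (fun q : R[X] => q.coeff ((x l).natDegree + d l)) (congrFun hx l)
    simp only [mulVec, dotProduct, Pi.zero_apply, coeff_zero, finset_sum_coeff, hcol, sub_mul,
      coeff_sub, Finset.sum_sub_distrib] at heq
    rw [Finset.sum_eq_single l (fun b _ hb => by simp [hb.symm]) (by simp), Pi.single_eq_same,
      Finset.sum_eq_zero (fun b _ => ?_), sub_zero, add_comm, coeff_X_pow_mul'] at heq
    · simp only [le_add_iff_nonneg_right, zero_le, if_true, Nat.add_sub_cancel_left] at heq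
      exact hl' (leadingCoeff_eq_zero.mp heq)
    · rcases eq_or_ne (x b) 0 with hb | hb
      · simp [hb]
      refine coeff_eq_zero_of_degree_lt (lt_of_le_of_lt (degree_mul_le _ _) ?_)
      rw [add_comm, Nat.cast_add, degree_eq_natDegree hb]
      exact WithBot.add_lt_add_of_le_of_lt (by simp)
        (WithBot.coe_le_coe.mpr (hmax b (by simpa [s] using hb))) (mem_bdd.mp (hpG b) l)
  -- conclusion
  have hcol : ∀ i : Fin n, ∃ u, Γ *ᵥ u = c *ᵥ Pi.single i 1 := fun i => hPS ⟨_, rfl⟩
  choose U hU using hcol
  let β : Matrix (Fin r) (Fin n) R[X] := Matrix.of fun j i => U i j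
  let α := e * Vm
  have hcβ : Γ * β = c := by
    refine ext_of_mulVec_single fun i => ?_
    rw [← mulVec_mulVec, mulVec_single_one, ← hU i]
    rfl
  have hcα : c * α = Γ := by simp only [α, Γ]; rw [← Matrix.mul_assoc, hce]
  refine ⟨r, β, α, ?_, ?_⟩
  · refine ext_of_mulVec_single fun j => ?_
    rw [← sub_eq_zero, ← Matrix.sub_mulVec]
    refine hΓinj _ ?_
    rw [mulVec_mulVec, Matrix.mul_sub, ← Matrix.mul_assoc, hcβ, hcα, Matrix.mul_one, sub_self,
      zero_mulVec]
  · apply gregM
    calc g • (α * β) = (g • e) * (α * β) := by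
          simp only [α]; rw [Matrix.smul_mul, ← Matrix.mul_assoc e (e * Vm), ← Matrix.mul_assoc e e, he]
      _ = a' * ((c * α) * β) := by rw [← hac]; simp only [Matrix.mul_assoc]
      _ = g • e := by rw [hcα, hcβ, hac]

end GrothLib.Horrocks
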