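/-
Horrocks' theorem: a finitely generated projective `A[X]`-module extends to the projective line iff
it is extended from `A`.
-/
import Groth.Agent.Lib.Horrocks.Local
import Mathlib.Algebra.Polynomial.Laurent
import Mathlib.RingTheory.TensorProduct.Basic
import Mathlib.LinearAlgebra.TensorProduct.Tower
import Mathlib.LinearAlgebra.TensorProduct.Pi
import Mathlib.RingTheory.Finiteness.Projective
import Mathlib.RingTheory.LocalRing.Module
import Mathlib.RingTheory.Polynomial.Basic
import Mathlib.Algebra.Polynomial.Reverse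

set_option autoImplicit false

namespace GrothLib.Horrocks

open Polynomial LaurentPolynomial Matrix TensorProduct

universe u

section Laurent

variable {A R : Type*} [CommRing A] [CommRing R]

/-- Base change of Laurent polynomials. -/
noncomputable def lmap (φ : A →+* R) : A[T;T⁻¹] →+* R[T;T⁻¹] :=
  LaurentPolynomial.eval₂ ((LaurentPolynomial.C).comp φ) (LaurentPolynomial.isUnit_T 1).unit

lemma lmap_toLaurent (φ : A →+* R) (p : A[X]) :
    lmap φ (toLaurent p) = toLaurent (p.map φ) := by
  rw [lmap, LaurentPolynomial.eval₂_toLaurent]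
  induction p using Polynomial.induction_on' with
  | add p q hp hq => rw [Polynomial.eval₂_add, hp, hq, Polynomial.map_add, map_add]
  | monomial k a =>
    simp [← Polynomial.C_mul_X_pow_eq_monomial, LaurentPolynomial.T_pow]

lemma lmap_invert (φ : A →+* R) (p : A[T;T⁻¹]) :
    lmap φ (invert p) = invert (lmap φ p) := by
  induction p using LaurentPolynomial.induction_on_mul_T with
  | _ f k =>
    have h : ∀ z : ℤ, lmap φ (T z) = T z := by
      intro z
      rw [lmap, LaurentPolynomial.eval₂_T]
      rcases Int.eq_nat_or_neg z with ⟨j, rfl | rfl⟩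
      · simp [LaurentPolynomial.T_pow]
      · rw [_root_.zpow_neg, zpow_natCast]
        apply Units.inv_eq_of_mul_eq_one_right
        rw [Units.val_pow_eq_pow_val, IsUnit.unit_spec, LaurentPolynomial.T_pow, ← LaurentPolynomial.T_add]
        simp
    simp only [map_mul, LaurentPolynomial.invert_T, h]
    congr 1
    induction f using Polynomial.induction_on' with
    | add p q hp hq => simp only [map_add, hp, hq]
    | monomial k a =>
      rw [← Polynomial.C_mul_X_pow_eq_monomial]
      simp only [map_mul, map_pow, Polynomial.toLaurent_C, Polynomial.toLaurent_X,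
        LaurentPolynomial.invert_C, LaurentPolynomial.invert_T, h]
      congr 1
      · simp [lmap, LaurentPolynomial.eval₂_C]

lemma exists_T_pow_uniform {p q : ℕ} (M : Matrix (Fin p) (Fin q) R[T;T⁻¹]) :
    ∃ N : ℕ, ∀ N', N ≤ N' → ∃ M' : Matrix (Fin p) (Fin q) R[X],
      M'.map (toLaurent : R[X] → R[T;T⁻¹]) = (T (N' : ℤ) : R[T;T⁻¹]) • M := by
  choose k f hf using fun i j => (M i j).exists_T_pow
  refine ⟨Finset.univ.sup fun i => Finset.univ.sup fun j => k i j, fun N' hN => ?_⟩
  have hle : ∀ i j, k i j ≤ N' := fun i j =>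
    ((Finset.le_sup (f := fun j => k i j) (Finset.mem_univ j)).trans
      (Finset.le_sup (f := fun i => Finset.univ.sup fun j => k i j) (Finset.mem_univ i))).trans hN
  refine ⟨Matrix.of fun i j => f i j * X ^ (N' - k i j), ?_⟩
  ext i j : 1
  simp only [Matrix.map_apply, Matrix.of_apply, map_mul, Polynomial.toLaurent_X_pow,
    Matrix.smul_apply, smul_eq_mul]
  rw [hf i j, mul_assoc, ← T_add, mul_comm (T (N' : ℤ))]
  congr 2
  have := hle i j
  omega

end Laurent

/-- Local step: extension to `ℙ¹` gives triviality. -/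
theorem trivial_of_local {R : Type u} [CommRing R] [IsLocalRing R] {n n' : ℕ}
    (e : Matrix (Fin n) (Fin n) R[X]) (he : e * e = e)
    (e' : Matrix (Fin n') (Fin n') R[X]) (he' : e' * e' = e')
    (h : Eqv (e.map toLaurent) (e'.map fun x => invert (toLaurent x))) :
    ∃ m : ℕ, Eqv e (1 : Matrix (Fin m) (Fin m) R[X]) := by
  classical
  let P0 : Ideal R[X] := (IsLocalRing.maximalIdeal R).comap (constantCoeff : R[X] →+* R)
  haveI : P0.IsPrime := Ideal.IsPrime.comap _
  let B := Localization.AtPrime P0
  have hq0 : ∀ q ∈ P0.primeCompl, IsUnit (q.coeff 0) := fun q hq =>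
    IsLocalRing.notMem_maximalIdeal.mp fun hm => hq (by simpa [P0] using hm)
  have hreg : P0.primeCompl ≤ nonZeroDivisors R[X] := by
    intro q hq
    by_contra hn
    obtain ⟨a, ha, haq⟩ := Polynomial.notMem_nonZeroDivisors_iff.mp hn
    have := congrArg (fun p : R[X] => p.coeff 0) haq
    simp only [Polynomial.coeff_smul, smul_eq_mul, Polynomial.coeff_zero] at this
    exact ha ((hq0 q hq).mul_left_eq_zero.mp this)
  have hinj : Function.Injective (algebraMap R[X] B) := IsLocalization.injective B hreg
  -- a basis of the range of `e'` over `B`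
  let eB : Matrix (Fin n') (Fin n') B := e'.map (algebraMap R[X] B)
  have heB : eB * eB = eB := by simp only [eB]; rw [← Matrix.map_mul, he']
  let pr := (Matrix.toLin' eB).rangeRestrict
  let Q := LinearMap.range (Matrix.toLin' eB)
  have hpr : pr.comp Q.subtype = LinearMap.id := by
    refine LinearMap.ext fun ⟨x, y, hy⟩ => Subtype.ext ?_
    subst hy
    change eB *ᵥ (eB *ᵥ y) = eB *ᵥ y
    rw [Matrix.mulVec_mulVec, heB]
  haveI : Module.Projective B Q := Module.Projective.of_split Q.subtype pr hpr
  haveI : Module.Finite B Q := Module.Finite.of_surjective pr (LinearMap.surjective_rangeRestrict _)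
  haveI : Module.Free B Q := Module.free_of_flat_of_isLocalRing (R := B) (P := Q)
  let bas := (Module.finBasis B Q).equivFun
  let m := Module.finrank B Q
  let α : Matrix (Fin n') (Fin m) B := LinearMap.toMatrix' (Q.subtype.comp bas.symm.toLinearMap)
  let β : Matrix (Fin m) (Fin n') B := LinearMap.toMatrix' (bas.toLinearMap.comp pr)
  have hαβ : α * β = eB := by
    rw [← LinearMap.toMatrix'_comp, ← LinearMap.toMatrix'_toLin' eB]
    congr 1
    refine LinearMap.ext fun x => ?_
    simp [pr, Q]
  have hβα : β * α = 1 := by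
    rw [← LinearMap.toMatrix'_comp, ← LinearMap.toMatrix'_id]
    congr 1
    refine LinearMap.ext fun x => ?_
    have := LinearMap.congr_fun hpr (bas.symm x)
    simp only [LinearMap.comp_apply, LinearEquiv.coe_coe, LinearMap.id_coe, id_eq] at this ⊢
    rw [this, LinearEquiv.apply_symm_apply]
  let S : Finset B := (Finset.univ.image fun ij : Fin n' × Fin m => α ij.1 ij.2) ∪
    (Finset.univ.image fun ij : Fin m × Fin n' => β ij.1 ij.2)
  obtain ⟨⟨q, hq⟩, hS⟩ := IsLocalization.exist_integer_multiples_of_finset P0.primeCompl S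
  choose a ha using fun i j => hS (α i j) (Finset.mem_union_left _
    (Finset.mem_image.mpr ⟨(i, j), Finset.mem_univ _, rfl⟩))
  choose b hb using fun i j => hS (β i j) (Finset.mem_union_right _
    (Finset.mem_image.mpr ⟨(i, j), Finset.mem_univ _, rfl⟩))
  let a0 : Matrix (Fin n') (Fin m) R[X] := Matrix.of a
  let b0 : Matrix (Fin m) (Fin n') R[X] := Matrix.of b
  let ι := algebraMap R[X] B
  have ha0 : a0.map ι = ι q • α := by
    ext i j : 1
    simp only [a0, ι, Matrix.map_apply, Matrix.of_apply, Matrix.smul_apply, ha, smul_eq_mul]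
    simp [Algebra.smul_def]
  have hb0 : b0.map ι = ι q • β := by
    ext i j : 1
    simp only [b0, ι, Matrix.map_apply, Matrix.of_apply, Matrix.smul_apply, hb, smul_eq_mul]
    simp [Algebra.smul_def]
  have hab : a0 * b0 = (q * q) • e' := by
    apply Matrix.map_injective hinj
    change (a0 * b0).map ι = ((q * q) • e').map ι
    rw [Matrix.map_mul, ha0, hb0, Matrix.smul_mul, Matrix.mul_smul, hαβ, smul_smul]
    ext i j : 1
    simp [eB, ι]
  have hbea : b0 * e' * a0 = (q * q) • (1 : Matrix (Fin m) (Fin m) R[X]) := by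
    apply Matrix.map_injective hinj
    change (b0 * e' * a0).map ι = ((q * q) • (1 : Matrix (Fin m) (Fin m) R[X])).map ι
    rw [Matrix.map_mul, Matrix.map_mul, ha0, hb0, show e'.map ι = α * β from hαβ.symm,
      Matrix.smul_mul, Matrix.smul_mul, Matrix.mul_smul, smul_smul, ← Matrix.mul_assoc, hβα,
      Matrix.one_mul, hβα]
    ext i j : 1
    by_cases hij : i = j <;> simp [hij, ι]
  -- transport to the chart at zero
  obtain ⟨U, W, hUW, hWU⟩ := h
  let inv : R[X] →+* R[T;T⁻¹] := ((invert (R := R)).toRingEquiv.toRingHom).comp toLaurent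
  have hinv : ∀ x : R[X], invert (toLaurent x) = inv x := fun _ => rfl
  let A0 := W * a0.map inv
  let B0 := b0.map inv * U
  have hUW' : U * W = e'.map inv := hUW
  have heL : e.map toLaurent * e.map toLaurent = e.map toLaurent := by rw [← Matrix.map_mul, he]
  have hA0B0 : A0 * B0 = inv (q * q) • e.map toLaurent := by
    simp only [A0, B0]
    rw [Matrix.mul_assoc, ← Matrix.mul_assoc (a0.map inv), ← Matrix.map_mul, hab,
      show ((q * q) • e').map inv = inv (q * q) • e'.map inv by ext i j : 1; simp,
      Matrix.smul_mul, Matrix.mul_smul, ← hUW', Matrix.mul_assoc U, hWU, ← Matrix.mul_assoc, hWU, heL]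
  have hB0A0 : B0 * A0 = inv (q * q) • (1 : Matrix (Fin m) (Fin m) R[T;T⁻¹]) := by
    simp only [A0, B0]
    rw [Matrix.mul_assoc, ← Matrix.mul_assoc U, hUW', ← Matrix.mul_assoc, ← Matrix.map_mul,
      ← Matrix.map_mul, hbea]
    ext i j : 1
    by_cases hij : i = j <;> simp [hij]
  obtain ⟨N1, hN1⟩ := exists_T_pow_uniform A0
  obtain ⟨N2, hN2⟩ := exists_T_pow_uniform B0
  obtain ⟨A1, hA1⟩ := hN1 (max N1 N2) (le_max_left _ _)
  obtain ⟨B1, hB1⟩ := hN2 (max N1 N2) (le_max_right _ _)
  set N := max N1 N2
  -- the monic polynomial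
  let g0 := q.reverse
  obtain ⟨v, hv⟩ := (hq0 q hq).exists_left_inv
  have hg0 : (Polynomial.C v * g0).Monic := by
    refine monic_C_mul_of_mul_leadingCoeff_eq_one ?_
    have hne : q.coeff 0 ≠ 0 := (hq0 q hq).ne_zero
    rw [reverse_leadingCoeff, trailingCoeff, natTrailingDegree_eq_zero.mpr (Or.inr hne)]
    exact hv
  let g : R[X] := X ^ N * X ^ N * ((Polynomial.C v * g0) * (Polynomial.C v * g0))
  have hg : g.Monic := ((monic_X_pow N).mul (monic_X_pow N)).mul (hg0.mul hg0)
  have hinvq : inv q * T (q.natDegree : ℤ) = toLaurent g0 := (toLaurent_reverse q).symm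
  let A2 : Matrix (Fin n) (Fin m) R[X] := (Polynomial.C v * Polynomial.C v * (X ^ q.natDegree * X ^ q.natDegree)) • A1
  have hfac : toLaurent (Polynomial.C v * Polynomial.C v * (X ^ q.natDegree * X ^ q.natDegree)) *
      (T (N : ℤ) * T (N : ℤ)) * inv (q * q) = toLaurent g := by
    simp only [g, map_mul, Polynomial.toLaurent_X_pow, ← hinvq]
    ring
  refine horrocks_local e he A2 B1 hg ?_ ?_
  · apply Matrix.map_injective Polynomial.toLaurent_injective
    change (A2 * B1).map toLaurent = (g • e).map toLaurent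
    simp only [A2, Matrix.smul_mul]
    rw [Matrix.map_smul' _ _ _ (map_mul toLaurent), Matrix.map_smul' _ _ _ (map_mul toLaurent),
      Matrix.map_mul, hA1, hB1, Matrix.smul_mul, Matrix.mul_smul, hA0B0, smul_smul, smul_smul,
      smul_smul, ← hfac]
    simp only [mul_assoc]
  · apply Matrix.map_injective Polynomial.toLaurent_injective
    change (B1 * A2).map toLaurent = (g • (1 : Matrix (Fin m) (Fin m) R[X])).map toLaurent
    simp only [A2, Matrix.mul_smul]
    rw [Matrix.map_smul' _ _ _ (map_mul toLaurent), Matrix.map_smul' _ _ _ (map_mul toLaurent),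
      Matrix.map_mul, hA1, hB1, Matrix.smul_mul, Matrix.mul_smul, hB0A0, smul_smul, smul_smul,
      smul_smul, ← hfac, Matrix.map_one _ (map_zero _) (map_one _)]
    simp only [mul_assoc]

/-- A module that is a retract with equivalent idempotent is isomorphic. -/
noncomputable def equivOfEqv {R : Type*} [CommRing R] {n m : ℕ} {M N : Type*} [AddCommGroup M]
    [Module R M] [AddCommGroup N] [Module R N] (i : M →ₗ[R] Fin n → R) (π : (Fin n → R) →ₗ[R] M)
    (hπi : π.comp i = LinearMap.id) (j : N →ₗ[R] Fin m → R) (ρ : (Fin m → R) →ₗ[R] N)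
    (hρj : ρ.comp j = LinearMap.id) (u : Matrix (Fin m) (Fin n) R) (w : Matrix (Fin n) (Fin m) R)
    (h1 : u * w = LinearMap.toMatrix' (j.comp ρ)) (h2 : w * u = LinearMap.toMatrix' (i.comp π)) :
    M ≃ₗ[R] N :=
  LinearEquiv.ofLinearMap ((ρ.comp (Matrix.toLin' u)).comp i) ((π.comp (Matrix.toLin' w)).comp j)
    (by
      have k2 : (Matrix.toLin' w).comp (Matrix.toLin' u) = i.comp π := by
        rw [← Matrix.toLin'_mul, h2, Matrix.toLin'_toMatrix']
      have k1 : (Matrix.toLin' u).comp (Matrix.toLin' w) = j.comp ρ := by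
        rw [← Matrix.toLin'_mul, h1, Matrix.toLin'_toMatrix']
      refine LinearMap.ext fun y => ?_
      have a1 := fun z => LinearMap.congr_fun k1 z
      have a2 := fun z => LinearMap.congr_fun k2 z
      have a3 := fun z => LinearMap.congr_fun hρj z
      simp only [LinearMap.comp_apply, LinearMap.id_coe, id_eq] at a1 a2 a3 ⊢
      rw [← a2, a1, a1, a3, a3, a3])
    (by
      have k2 : (Matrix.toLin' w).comp (Matrix.toLin' u) = i.comp π := by
        rw [← Matrix.toLin'_mul, h2, Matrix.toLin'_toMatrix']
      have k1 : (Matrix.toLin' u).comp (Matrix.toLin' w) = j.comp ρ := by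
        rw [← Matrix.toLin'_mul, h1, Matrix.toLin'_toMatrix']
      refine LinearMap.ext fun y => ?_
      have a1 := fun z => LinearMap.congr_fun k1 z
      have a2 := fun z => LinearMap.congr_fun k2 z
      have a3 := fun z => LinearMap.congr_fun hπi z
      simp only [LinearMap.comp_apply, LinearMap.id_coe, id_eq] at a1 a2 a3 ⊢
      rw [← a1, a2, a2, a3, a3, a3])

variable (A : Type u) [CommRing A]

theorem extended_of_extends_to_P1 (M : Type u) [AddCommGroup M] [Module A[X] M]
    [Module.Finite A[X] M] [Module.Projective A[X] M]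
    (N : Type u) [AddCommGroup N] [Module A[X] N] [Module.Finite A[X] N] [Module.Projective A[X] N]
    (f : (A[T;T⁻¹] ⊗[A[X]] M) →ₛₗ[(LaurentPolynomial.invert (R := A)).toRingEquiv.toRingHom]
      (A[T;T⁻¹] ⊗[A[X]] N)) (hf : Function.Bijective f) :
    ∃ (P : Type u) (_ : AddCommGroup P) (_ : Module A P), Nonempty (M ≃ₗ[A[X]] (A[X] ⊗[A] P)) := by
  classical
  obtain ⟨n, π, i, -, -, hπi⟩ := Module.Finite.exists_comp_eq_id_of_projective A[X] M
  obtain ⟨n', π', i', -, -, hπi'⟩ := Module.Finite.exists_comp_eq_id_of_projective A[X] N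
  let e := LinearMap.toMatrix' (i.comp π)
  let e' := LinearMap.toMatrix' (i'.comp π')
  have he : e * e = e := by
    simp only [e]
    rw [← LinearMap.toMatrix'_comp, LinearMap.comp_assoc, ← LinearMap.comp_assoc _ i π, hπi,
      LinearMap.id_comp]
  have he' : e' * e' = e' := by
    simp only [e']
    rw [← LinearMap.toMatrix'_comp, LinearMap.comp_assoc, ← LinearMap.comp_assoc _ i' π', hπi',
      LinearMap.id_comp]
  -- base change to Laurent polynomials
  let L := A[T;T⁻¹]
  let τ := (LaurentPolynomial.invert (R := A)).toRingEquiv.toRingHom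
  have hττ : ∀ x : L, τ (τ x) = x := fun x => LaurentPolynomial.involutive_invert x
  let Pn := fun k : ℕ => TensorProduct.piScalarRight A[X] L L (Fin k)
  let iL : (L ⊗[A[X]] M) →ₗ[L] (Fin n → L) := (Pn n).toLinearMap.comp (i.baseChange L)
  let πL : (Fin n → L) →ₗ[L] (L ⊗[A[X]] M) := (π.baseChange L).comp (Pn n).symm.toLinearMap
  let iL' : (L ⊗[A[X]] N) →ₗ[L] (Fin n' → L) := (Pn n').toLinearMap.comp (i'.baseChange L)
  let πL' : (Fin n' → L) →ₗ[L] (L ⊗[A[X]] N) := (π'.baseChange L).comp (Pn n').symm.toLinearMap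
  have hbc : ∀ {k : ℕ} {V : Type u} [AddCommGroup V] [Module A[X] V] (j : V →ₗ[A[X]] Fin k → A[X])
      (ρ : (Fin k → A[X]) →ₗ[A[X]] V) (x : Fin k),
      (Pn k).toLinearMap ((j.baseChange L) ((ρ.baseChange L) ((Pn k).symm (Pi.single x 1)))) =
        fun y => toLaurent (j (ρ (Pi.single x 1)) y) := by
    intro k V _ _ j ρ x
    funext y
    simp [Pn, TensorProduct.piScalarRight_symm_single, LinearMap.baseChange_tmul,
      Algebra.smul_def]
    exact LaurentPolynomial.algebraMap_eq_toLaurent _
  have hπiL : ∀ x, πL (iL x) = x := by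
    intro x
    simp only [πL, iL, LinearMap.comp_apply, LinearEquiv.coe_coe, LinearEquiv.symm_apply_apply]
    rw [← LinearMap.comp_apply, ← LinearMap.baseChange_comp, hπi, LinearMap.baseChange_id,
      LinearMap.id_apply]
  have hπiL' : ∀ x, πL' (iL' x) = x := by
    intro x
    simp only [πL', iL', LinearMap.comp_apply, LinearEquiv.coe_coe, LinearEquiv.symm_apply_apply]
    rw [← LinearMap.comp_apply, ← LinearMap.baseChange_comp, hπi', LinearMap.baseChange_id,
      LinearMap.id_apply]
  let finv := Function.surjInv hf.2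
  have hfinv : ∀ y, f (finv y) = y := Function.surjInv_eq hf.2
  let Ul : (Fin n → L) →ₗ[L] (Fin n' → L) :=
    { toFun := fun x y => τ (iL' (f (πL x)) y)
      map_add' := fun x x' => by funext y; simp
      map_smul' := fun c x => by
        funext y
        simp only [map_smul, LinearMap.map_smulₛₗ, Pi.smul_apply, smul_eq_mul, map_mul,
          RingHom.id_apply]
        exact congrArg (· * _) (hττ c) }
  let Wl : (Fin n' → L) →ₗ[L] (Fin n → L) :=
    { toFun := fun x => iL (finv (πL' fun y => τ (x y)))
      map_add' := fun x x' => by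
        rw [← map_add]
        congr 1
        apply hf.1
        rw [map_add, hfinv, hfinv, hfinv, ← map_add]
        congr 1
        funext y
        simp
      map_smul' := fun c x => by
        rw [RingHom.id_apply, ← map_smul]
        congr 1
        apply hf.1
        rw [LinearMap.map_smulₛₗ, hfinv, hfinv, ← map_smul]
        congr 1
        funext y
        simp only [Pi.smul_apply, smul_eq_mul, map_mul]
        rfl }
  have hEL : Eqv (e.map toLaurent) (e'.map fun x => invert (toLaurent x)) := by
    refine ⟨LinearMap.toMatrix' Ul, LinearMap.toMatrix' Wl, ?_, ?_⟩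
    · refine Matrix.ext_of_mulVec_single fun x => ?_
      rw [← LinearMap.toMatrix'_comp, LinearMap.toMatrix'_mulVec]
      funext y
      simp only [LinearMap.comp_apply, Ul, Wl, LinearMap.coe_mk, AddHom.coe_mk]
      rw [hπiL, hfinv,
        show (fun y => τ ((Pi.single x 1 : Fin n' → L) y)) = Pi.single x 1 by
          funext y; by_cases hy : y = x <;> simp [hy],
        show iL' (πL' (Pi.single x 1)) = _ from hbc i' π' x, mulVec_single_one, col_apply,
        Matrix.map_apply]
      rfl
    · refine Matrix.ext_of_mulVec_single fun x => ?_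
      rw [← LinearMap.toMatrix'_comp, LinearMap.toMatrix'_mulVec]
      simp only [LinearMap.comp_apply, Ul, Wl, LinearMap.coe_mk, AddHom.coe_mk, hττ]
      rw [hπiL', show finv (f (πL (Pi.single x 1))) = πL (Pi.single x 1) from hf.1 (hfinv _),
        show iL (πL (Pi.single x 1)) = _ from hbc i π x]
      funext y
      rw [mulVec_single_one, col_apply, Matrix.map_apply]
      rfl
  -- locally trivial
  have hloc : ∀ m : Ideal A, ∀ [m.IsMaximal], ∃ r : ℕ,
      Eqv (e.map (mapRingHom (algebraMap A (Localization.AtPrime m))))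
        (1 : Matrix (Fin r) (Fin r) (Localization.AtPrime m)[X]) := by
    intro m hm
    let φ := algebraMap A (Localization.AtPrime m)
    refine trivial_of_local _ (by rw [← Matrix.map_mul, he]) (e'.map (mapRingHom φ))
      (by rw [← Matrix.map_mul, he']) ?_
    have h := hEL.map (lmap φ)
    simp only [Matrix.map_map] at h ⊢
    convert h using 2
    · funext x
      exact (lmap_toLaurent φ x).symm
    · funext x
      simp only [Function.comp_apply, lmap_invert, lmap_toLaurent]
      rfl
  obtain ⟨u, w, h1, h2⟩ := eqv_eval_zero he hloc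
  -- descend
  let e0 := e.map (evalRingHom 0)
  let P := LinearMap.range (Matrix.toLin' e0)
  let pr := (Matrix.toLin' e0).rangeRestrict
  have he0 : e0 * e0 = e0 := by simp only [e0]; rw [← Matrix.map_mul, he]
  have hpr : pr.comp P.subtype = LinearMap.id := by
    refine LinearMap.ext fun ⟨x, y, hy⟩ => Subtype.ext ?_
    subst hy
    change e0 *ᵥ (e0 *ᵥ y) = e0 *ᵥ y
    rw [Matrix.mulVec_mulVec, he0]
  let Q := TensorProduct.piScalarRight A A[X] A[X] (Fin n)
  let jP : (A[X] ⊗[A] P) →ₗ[A[X]] (Fin n → A[X]) := Q.toLinearMap.comp (P.subtype.baseChange A[X])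
  let ρP : (Fin n → A[X]) →ₗ[A[X]] (A[X] ⊗[A] P) := (pr.baseChange A[X]).comp Q.symm.toLinearMap
  have hρj : ρP.comp jP = LinearMap.id := by
    refine LinearMap.ext fun x => ?_
    simp only [ρP, jP, LinearMap.comp_apply, LinearEquiv.coe_coe, LinearEquiv.symm_apply_apply]
    rw [← LinearMap.comp_apply, ← LinearMap.baseChange_comp, hpr, LinearMap.baseChange_id]
  have hjρ : LinearMap.toMatrix' (jP.comp ρP) = e0.map Polynomial.C := by
    ext x y : 1
    simp [jP, ρP, Q, pr, P, LinearMap.toMatrix'_apply, Pi.single_apply, Algebra.smul_def,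
      ← Pi.single_apply, TensorProduct.piScalarRight_symm_single]
  exact ⟨P, inferInstance, inferInstance,
    ⟨equivOfEqv i π hπi jP ρP hρj u w (h1.trans hjρ.symm) h2⟩⟩

theorem extends_to_P1_of_extended (M : Type u) [AddCommGroup M] [Module A[X] M]
    (P : Type u) [AddCommGroup P] [Module A P] (φ : M ≃ₗ[A[X]] (A[X] ⊗[A] P)) :
    ∃ f : (A[T;T⁻¹] ⊗[A[X]] M) →ₛₗ[(LaurentPolynomial.invert (R := A)).toRingEquiv.toRingHom]
        (A[T;T⁻¹] ⊗[A[X]] M), Function.Bijective f := by
  haveI : IsScalarTower A A[X] A[T;T⁻¹] := IsScalarTower.of_algebraMap_eq fun a => by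
    simp [LaurentPolynomial.algebraMap_eq_toLaurent, LaurentPolynomial.algebraMap_apply]
  let L := A[T;T⁻¹]
  let Φ : (L ⊗[A[X]] M) ≃ₗ[L] (L ⊗[A] P) :=
    (LinearEquiv.baseChange A[X] L M (A[X] ⊗[A] P) φ).trans
      (TensorProduct.AlgebraTensorModule.cancelBaseChange A A[X] L L P)
  let t : (L ⊗[A] P) ≃ₗ[A] (L ⊗[A] P) :=
    TensorProduct.congr (LaurentPolynomial.invert (R := A)).toLinearEquiv (LinearEquiv.refl A P)
  have ht : ∀ (c : L) (z : L ⊗[A] P), t (c • z) = invert c • t z := by
    intro c z
    induction z using TensorProduct.induction_on with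
    | zero => simp
    | tmul a p => simp [t, TensorProduct.smul_tmul', map_mul]
    | add a b ha hb => simp only [smul_add, map_add, ha, hb]
  refine ⟨{ toFun := fun z => Φ.symm (t (Φ z))
            map_add' := fun x y => by simp
            map_smul' := fun c x => by rw [map_smul, ht, map_smul]; rfl }, ?_⟩
  exact Φ.symm.bijective.comp (t.bijective.comp Φ.bijective)

end GrothLib.Horrocks
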