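import Groth.Agent.Lib.Horrocks.Main
import Groth.Agent.Lib.Horrocks.Patch
import Mathlib

/-!
# Projective modules over `A` which become isomorphic after inverting the monic polynomials
-/

set_option autoImplicit false

namespace GrothLib.Horrocks

open Polynomial LaurentPolynomial Matrix TensorProduct

universe u

variable {A : Type u} [CommRing A]

theorem map_reflect {N n m : ℕ} (M : Matrix (Fin n) (Fin m) A[X]) (hM : ∀ i j, (M i j).natDegree ≤ N)
    {l : ℕ} (M' : Matrix (Fin m) (Fin l) A[X]) (hM' : ∀ i j, (M' i j).natDegree ≤ N) :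
    (M.map (Polynomial.reflect N)) * (M'.map (Polynomial.reflect N)) = (M * M').map (Polynomial.reflect (N + N)) := by
  ext i j : 1
  simp only [Matrix.mul_apply, Matrix.map_apply]
  have hadd : ∀ (s : Finset (Fin m)) (g : Fin m → A[X]),
      Polynomial.reflect (N + N) (∑ x ∈ s, g x) = ∑ x ∈ s, Polynomial.reflect (N + N) (g x) := fun s g =>
    map_sum ({ toFun := Polynomial.reflect (N + N), map_zero' := by simp, map_add' := fun p q => by simp } :
      A[X] →+ A[X]) g s
  rw [hadd]
  exact Finset.sum_congr rfl fun x _ => (Polynomial.reflect_mul _ _ (hM i x) (hM' x j)).symm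

/-- The matrix core at infinity: isomorphic after inverting `X` and a polynomial with constant term `1`. -/
theorem eqv_of_coeff_zero {n n' : ℕ} (ε : Matrix (Fin n) (Fin n) A) (hε : ε * ε = ε)
    (ε' : Matrix (Fin n') (Fin n') A) (hε' : ε' * ε' = ε')
    (U₁ : Matrix (Fin n') (Fin n) A[X]) (W₁ : Matrix (Fin n) (Fin n') A[X]) (r : ℕ) {g₀ : A[X]}
    (hf0 : g₀.coeff 0 = 1)
    (hU : ε'.map Polynomial.C * U₁ = U₁) (hU' : U₁ * ε.map Polynomial.C = U₁)
    (hW : ε.map Polynomial.C * W₁ = W₁) (hW' : W₁ * ε'.map Polynomial.C = W₁)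
    (hUW : U₁ * W₁ = (Polynomial.X ^ r * g₀) • ε'.map Polynomial.C)
    (hWU : W₁ * U₁ = (Polynomial.X ^ r * g₀) • ε.map Polynomial.C) :
    Eqv ε ε' := by
  classical
  let U : Matrix (Fin n') (Fin n) A[X] := (Polynomial.X : A[X]) • U₁
  let W : Matrix (Fin n) (Fin n') A[X] := ((Polynomial.X : A[X]) * g₀) • W₁
  let a : A[X] := X ^ (r + 2)
  let b : A[X] := g₀ ^ 2
  let E := ε.map Polynomial.C
  let E' := ε'.map Polynomial.C
  have hE : E * E = E := by simp only [E]; rw [← Matrix.map_mul, hε]
  have hE' : E' * E' = E' := by simp only [E']; rw [← Matrix.map_mul, hε']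
  have eUW : U * W = (a * b) • E' := by
    simp only [U, W, Matrix.smul_mul, Matrix.mul_smul, smul_smul]
    rw [hUW, smul_smul]
    congr 1
    simp only [a, b]; ring
  have eWU : W * U = (a * b) • E := by
    simp only [U, W, Matrix.smul_mul, Matrix.mul_smul, smul_smul]
    rw [hWU, smul_smul]
    congr 1
    simp only [a, b]; ring
  have eU : E' * U = U := by simp only [U, E', Matrix.mul_smul]; rw [hU]
  have eU' : U * E = U := by simp only [U, E, Matrix.smul_mul]; rw [hU']
  have eW : E * W = W := by simp only [W, E, Matrix.mul_smul]; rw [hW]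
  have eW' : W * E' = W := by simp only [W, E', Matrix.smul_mul]; rw [hW']
  obtain ⟨c, d, hcd⟩ : IsCoprime a b := by
    refine IsCoprime.pow ?_
    obtain ⟨g, hg⟩ := Polynomial.X_dvd_iff.2 (show (g₀ - 1).coeff 0 = 0 by simp [hf0])
    exact ⟨-g, 1, by linear_combination hg⟩
  let e₂ : Matrix (Fin n ⊕ Fin n') (Fin n ⊕ Fin n') A[X] :=
    Matrix.fromBlocks ((c * a) • E) (d • W) (c • U) ((d * b) • E')
  have he₂ : e₂ * e₂ = e₂ := by
    simp only [e₂, Matrix.fromBlocks_multiply, Matrix.smul_mul, Matrix.mul_smul, smul_smul, hE, hE', eUW, eWU,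
      eU, eU', eW, eW', ← add_smul]
    rw [Matrix.fromBlocks_inj]
    refine ⟨?_, ?_, ?_, ?_⟩ <;> congr 1
    · linear_combination (c * a) * hcd
    · linear_combination d * hcd
    · linear_combination c * hcd
    · linear_combination (d * b) * hcd
  -- any evaluation making `a` invertible gives `ε`
  have key : ∀ {S : Type u} [CommRing S] (φ : A[X] →+* S), IsUnit (φ a) →
      Eqv (E.map φ) (e₂.map φ) := by
    intro S _ φ hu
    obtain ⟨v, hv⟩ := hu.exists_left_inv
    have k1 : E.map φ * E.map φ = E.map φ := by rw [← Matrix.map_mul, hE]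
    have k2 : E'.map φ * E'.map φ = E'.map φ := by rw [← Matrix.map_mul, hE']
    have k3 : U.map φ * W.map φ = (φ a * φ b) • E'.map φ := by
      rw [← Matrix.map_mul, eUW, Matrix.map_smul' _ _ _ (map_mul φ), map_mul]
    have k4 : W.map φ * U.map φ = (φ a * φ b) • E.map φ := by
      rw [← Matrix.map_mul, eWU, Matrix.map_smul' _ _ _ (map_mul φ), map_mul]
    have k5 : E.map φ * W.map φ = W.map φ := by rw [← Matrix.map_mul, eW]
    have k6 : U.map φ * E.map φ = U.map φ := by rw [← Matrix.map_mul, eU']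
    have hsm : ∀ {p q : Type} (c : A[X]) (M : Matrix p q A[X]), (c • M).map φ = φ c • M.map φ := fun c M => by
      ext i j; simp
    have k7 : φ c * φ a + φ d * φ b = 1 := by rw [← map_mul, ← map_mul, ← map_add, hcd, map_one]
    refine ⟨Matrix.fromRows (E.map φ) (v • U.map φ),
      Matrix.fromCols ((φ c * φ a) • E.map φ) (φ d • W.map φ), ?_, ?_⟩
    · simp only [e₂, Matrix.fromBlocks_map, hsm, Matrix.fromRows_mul_fromCols,
        Matrix.smul_mul, Matrix.mul_smul, smul_smul, k1, k3, k5, k6, map_mul]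
      rw [Matrix.fromBlocks_inj]
      refine ⟨rfl, rfl, ?_, ?_⟩ <;> congr 1
      · linear_combination (φ c) * hv
      · linear_combination (φ d * φ b) * hv
    · simp only [Matrix.fromCols_mul_fromRows, Matrix.smul_mul, Matrix.mul_smul, smul_smul, k1, k4, ← add_smul]
      rw [show φ c * φ a + v * (φ d * (φ a * φ b)) = 1 by linear_combination k7 + (φ d * φ b) * hv, one_smul]
  -- reindex
  let σ : Fin n ⊕ Fin n' ≃ Fin (n + n') := finSumFinEquiv
  let e : Matrix (Fin (n + n')) (Fin (n + n')) A[X] := e₂.submatrix σ.symm σ.symm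
  have he : e * e = e := by simp only [e]; rw [Matrix.submatrix_mul_equiv, he₂]
  have keyσ : ∀ {S : Type u} [CommRing S] (φ : A[X] →+* S), IsUnit (φ a) →
      Eqv (E.map φ) (e.map φ) := by
    intro S _ φ hu
    obtain ⟨X', Y', h1, h2⟩ := key φ hu
    refine ⟨X'.submatrix σ.symm id, Y'.submatrix id σ.symm, ?_, ?_⟩
    · erw [Matrix.submatrix_mul_equiv X' Y' σ.symm (Equiv.refl (Fin n)) σ.symm, h1]
      rfl
    · rw [Matrix.submatrix_mul_equiv Y' X' id σ.symm id, h2, Matrix.submatrix_id_id]
  have hEL : Eqv (e.map toLaurent) (E.map fun x => invert (toLaurent x)) := by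
    have h := (keyσ (toLaurent : A[X] →+* A[T;T⁻¹]) (by
      rw [map_pow, Polynomial.toLaurent_X]; exact (LaurentPolynomial.isUnit_T 1).pow _)).symm
    have hh : E.map (fun x => invert (toLaurent x)) = E.map (toLaurent : A[X] →+* A[T;T⁻¹]) := by
      ext i j : 1; simp [E, Polynomial.toLaurent_C, LaurentPolynomial.invert_C]
    rw [hh]; exact h
  have hloc : ∀ m : Ideal A, ∀ [m.IsMaximal], ∃ q : ℕ,
      Eqv (e.map (mapRingHom (algebraMap A (Localization.AtPrime m))))
        (1 : Matrix (Fin q) (Fin q) (Localization.AtPrime m)[X]) := by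
    intro m hm
    let φ := algebraMap A (Localization.AtPrime m)
    refine trivial_of_local _ (by rw [← Matrix.map_mul, he]) (E.map (mapRingHom φ))
      (by rw [← Matrix.map_mul, hE]) ?_
    have h := hEL.map (lmap φ)
    simp only [Matrix.map_map] at h ⊢
    convert h using 2
    · funext x
      exact (lmap_toLaurent φ x).symm
    · funext x
      simp only [Function.comp_apply, lmap_invert, lmap_toLaurent]
      rfl
  have h0 := (eqv_eval_zero he hloc).map (evalRingHom (1 : A))
  have hcomp : ((e.map (evalRingHom 0)).map Polynomial.C).map (evalRingHom (1 : A)) = e.map (evalRingHom 0) := by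
    ext i j; simp
  rw [hcomp] at h0
  have h1 := keyσ (evalRingHom (1 : A)) (by simp [a])
  have hE1 : E.map (evalRingHom (1 : A)) = ε := by ext i j; simp [E]
  rw [hE1] at h1
  have he1 : e.map (evalRingHom (1 : A)) * e.map (evalRingHom (1 : A)) = e.map (evalRingHom (1 : A)) := by
    rw [← Matrix.map_mul, he]
  have he0 : e.map (evalRingHom (0 : A)) * e.map (evalRingHom (0 : A)) = e.map (evalRingHom (0 : A)) := by
    rw [← Matrix.map_mul, he]
  refine Eqv.trans hε hε' (Eqv.trans hε he0 h1 h0) ?_
  -- the fibre at `0`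
  have z1 : U.map (evalRingHom (0 : A)) = 0 := by ext i j; simp [U]
  have z2 : W.map (evalRingHom (0 : A)) = 0 := by ext i j; simp [W]
  have z3 : (evalRingHom (0 : A)) a = 0 := by simp [a]
  have z4 : E'.map (evalRingHom (0 : A)) = ε' := by ext i j; simp [E']
  have z5 : (evalRingHom (0 : A)) d * (evalRingHom (0 : A)) b = 1 := by
    have := congrArg (evalRingHom (0 : A)) hcd
    rwa [map_add, map_mul, map_mul, z3, mul_zero, zero_add, map_one] at this
  have hblock : e₂.map (evalRingHom (0 : A)) = Matrix.fromBlocks 0 0 0 ε' := by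
    have hsm : ∀ {p q : Type} (c : A[X]) (M : Matrix p q A[X]),
        (c • M).map (evalRingHom (0 : A)) = evalRingHom (0 : A) c • M.map (evalRingHom (0 : A)) := fun c M => by
      ext i j; simp
    simp only [e₂, Matrix.fromBlocks_map, hsm, map_mul,
      z1, z2, z3, z4, z5, mul_zero, zero_smul, smul_zero, one_smul]
  refine ⟨(Matrix.fromCols (0 : Matrix (Fin n') (Fin n) A) ε').submatrix id σ.symm,
    (Matrix.fromRows (0 : Matrix (Fin n) (Fin n') A) ε').submatrix σ.symm id, ?_, ?_⟩
  · rw [Matrix.submatrix_mul_equiv _ _ id σ.symm id, Matrix.submatrix_id_id, Matrix.fromCols_mul_fromRows,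
      Matrix.zero_mul, zero_add, hε']
  · erw [Matrix.submatrix_mul_equiv _ _ σ.symm (Equiv.refl (Fin n')) σ.symm, Matrix.fromRows_mul_fromCols,
      Matrix.zero_mul, Matrix.zero_mul, Matrix.mul_zero, hε', ← hblock]
    rfl


/-- The matrix core: isomorphic after inverting monic polynomials implies isomorphic. -/
theorem eqv_of_monic {n n' : ℕ} (ε : Matrix (Fin n) (Fin n) A) (hε : ε * ε = ε)
    (ε' : Matrix (Fin n') (Fin n') A) (hε' : ε' * ε' = ε')
    (U₀ : Matrix (Fin n') (Fin n) A[X]) (W₀ : Matrix (Fin n) (Fin n') A[X]) {f : A[X]} (hf : f.Monic)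
    (hU : ε'.map Polynomial.C * U₀ = U₀) (hU' : U₀ * ε.map Polynomial.C = U₀)
    (hW : ε.map Polynomial.C * W₀ = W₀) (hW' : W₀ * ε'.map Polynomial.C = W₀)
    (hUW : U₀ * W₀ = f • ε'.map Polynomial.C) (hWU : W₀ * U₀ = f • ε.map Polynomial.C) :
    Eqv ε ε' := by
  classical
  rcases subsingleton_or_nontrivial A with hA | hA
  · exact ⟨0, 0, Subsingleton.elim _ _, Subsingleton.elim _ _⟩
  -- reflect everything to the chart at infinity
  let N := (Finset.univ.sup fun p : Fin n' × Fin n => (U₀ p.1 p.2).natDegree) +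
    (Finset.univ.sup fun p : Fin n × Fin n' => (W₀ p.1 p.2).natDegree) + f.natDegree
  have hNU : ∀ i j, (U₀ i j).natDegree ≤ N := fun i j => by
    have := Finset.le_sup (f := fun p : Fin n' × Fin n => (U₀ p.1 p.2).natDegree) (Finset.mem_univ (i, j))
    simp only [N] at this ⊢; omega
  have hNW : ∀ i j, (W₀ i j).natDegree ≤ N := fun i j => by
    have := Finset.le_sup (f := fun p : Fin n × Fin n' => (W₀ p.1 p.2).natDegree) (Finset.mem_univ (i, j))
    simp only [N] at this ⊢; omega
  let U₁ := U₀.map (Polynomial.reflect N)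
  let W₁ := W₀.map (Polynomial.reflect N)
  let r := N + N - f.natDegree
  have hrf : Polynomial.reflect (N + N) f = X ^ r * f.reverse := by
    conv_lhs => rw [← mul_one f, show N + N = f.natDegree + r by simp only [r, N]; omega]
    rw [Polynomial.reflect_mul f 1 le_rfl (by simp), Polynomial.reflect_one, mul_comm]
    rfl
  have hsc : ∀ {k : ℕ} (δ : Matrix (Fin k) (Fin k) A),
      (f • δ.map Polynomial.C).map (Polynomial.reflect (N + N)) = (X ^ r * f.reverse) • δ.map Polynomial.C := by
    intro k δ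
    ext i j : 1
    simp only [Matrix.map_apply, Matrix.smul_apply, smul_eq_mul]
    rw [mul_comm f, Polynomial.reflect_C_mul, hrf, mul_comm]
  have hCC : ∀ {k l : ℕ} (δ : Matrix (Fin k) (Fin k) A) (M : Matrix (Fin k) (Fin l) A[X]),
      (δ.map Polynomial.C * M).map (Polynomial.reflect N) = δ.map Polynomial.C * M.map (Polynomial.reflect N) := by
    intro k l δ M
    ext i j : 1
    simp only [Matrix.map_apply, Matrix.mul_apply]
    have hadd : ∀ (s : Finset (Fin k)) (g : Fin k → A[X]),
        Polynomial.reflect N (∑ x ∈ s, g x) = ∑ x ∈ s, Polynomial.reflect N (g x) := fun s g =>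
      map_sum ({ toFun := Polynomial.reflect N, map_zero' := by simp, map_add' := fun p q => by simp } :
        A[X] →+ A[X]) g s
    rw [hadd]
    exact Finset.sum_congr rfl fun x _ => Polynomial.reflect_C_mul _ _ _
  have hCC' : ∀ {k l : ℕ} (δ : Matrix (Fin l) (Fin l) A) (M : Matrix (Fin k) (Fin l) A[X]),
      (M * δ.map Polynomial.C).map (Polynomial.reflect N) = M.map (Polynomial.reflect N) * δ.map Polynomial.C := by
    intro k l δ M
    ext i j : 1
    simp only [Matrix.map_apply, Matrix.mul_apply]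
    have hadd : ∀ (s : Finset (Fin l)) (g : Fin l → A[X]),
        Polynomial.reflect N (∑ x ∈ s, g x) = ∑ x ∈ s, Polynomial.reflect N (g x) := fun s g =>
      map_sum ({ toFun := Polynomial.reflect N, map_zero' := by simp, map_add' := fun p q => by simp } :
        A[X] →+ A[X]) g s
    rw [hadd]
    exact Finset.sum_congr rfl fun x _ => by rw [mul_comm, Polynomial.reflect_C_mul, mul_comm]
  exact eqv_of_coeff_zero ε hε ε' hε' U₁ W₁ r (g₀ := f.reverse)
    (by rw [Polynomial.coeff_zero_reverse]; exact hf)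
    (by simp only [U₁]; rw [← hCC, hU]) (by simp only [U₁]; rw [← hCC', hU'])
    (by simp only [W₁]; rw [← hCC, hW]) (by simp only [W₁]; rw [← hCC', hW'])
    (by simp only [U₁, W₁]; rw [map_reflect U₀ hNU W₀ hNW, hUW, hsc])
    (by simp only [U₁, W₁]; rw [map_reflect W₀ hNW U₀ hNU, hWU, hsc])

end GrothLib.Horrocks
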